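import Cfsg.Agent.Lib.Leech.Co1Cent.Xi

/-!
Lattice tools for checking certificates: membership and congruence tests, generators of the lattice,
automorphisms given by matrices.
-/

set_option autoImplicit false
set_option maxRecDepth 100000

namespace Cfsg.Agent.MonHe94

open Cfsg Cfsg.Agent.Leech Matrix
open Cfsg.Agent.Golay (idx pt toSet inCode idx_lt pt_idx basisN)
open Cfsg.Agent.Leech.Co1Cent (maskOf)

/-- The coordinate test for a vector and a word. -/
def memAux (x : GolayPt → ℤ) (n : ℕ) : Bool :=
  inCode n && ((List.range 24).all fun i =>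
      (x (pt i) - x none - 2 * (if n.testBit i then 1 else 0)) % 4 == 0) &&
    ((((List.range 24).map fun i => x (pt i)).sum - 4 * x none) % 8 == 0)

/-- A test of membership of the lattice. -/
def memB (x : GolayPt → ℤ) : Bool := memAux x (maskOf x)

theorem sum_range24 (x : GolayPt → ℤ) : ((List.range 24).map fun i => x (pt i)).sum = ∑ p, x p := by
  rw [← List.sum_toFinset _ List.nodup_range]
  refine Finset.sum_bij (fun i _ => pt i) (fun _ _ => Finset.mem_univ _) ?_ ?_ (fun _ _ => rfl)
  · intro a ha b hb e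
    rw [List.mem_toFinset, List.mem_range] at ha hb
    rw [← Golay.idx_pt ha, e, Golay.idx_pt hb]
  · intro p _
    exact ⟨idx p, by rw [List.mem_toFinset, List.mem_range]; exact idx_lt p, pt_idx p⟩

theorem mem_of_memB {x : GolayPt → ℤ} (h : memB x = true) : x ∈ leechLattice := by
  simp only [memB, memAux, Bool.and_eq_true, List.all_eq_true, List.mem_range, beq_iff_eq] at h
  obtain ⟨⟨h1, h2⟩, h3⟩ := h
  refine mem_lattice_iff.2 ⟨x none, toSet (maskOf x), Golay.mem_supports_iff.2 ⟨_, h1, rfl⟩,
    fun p => ?_, ?_⟩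
  · have h := h2 (idx p) (idx_lt p)
    rw [pt_idx] at h
    simp only [bit, Golay.mem_toSet]
    exact Int.dvd_of_emod_eq_zero h
  · rw [sum_range24] at h3
    exact Int.dvd_of_emod_eq_zero h3

/-- A test of congruence modulo twice the lattice. -/
def congB (x y : GolayPt → ℤ) : Bool :=
  ((List.range 24).all fun i => (x (pt i) - y (pt i)) % 2 == 0) && memB fun p => (x p - y p) / 2

theorem cong_of_congB {x y : GolayPt → ℤ} (h : congB x y = true) : Cong x y := by
  simp only [congB, Bool.and_eq_true, List.all_eq_true, List.mem_range, beq_iff_eq] at h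
  obtain ⟨h1, h2⟩ := h
  refine ⟨_, mem_of_memB h2, funext fun p => ?_⟩
  have h := h1 (idx p) (idx_lt p)
  rw [pt_idx] at h
  simp only [Pi.sub_apply, Pi.smul_apply, nsmul_eq_mul, Nat.cast_ofNat]
  omega

/-- A subgroup containing the standard generators contains the lattice. -/
theorem leech_le {T : AddSubgroup (GolayPt → ℤ)}
    (h4 : ∀ i : GolayPt, (Pi.single i 4 - Pi.single none 4 : GolayPt → ℤ) ∈ T)
    (h8 : (Pi.single none 8 : GolayPt → ℤ) ∈ T) (h1 : rep 1 ∅ ∈ T)
    (hb : ∀ b ∈ basisN, rep 0 (toSet b) ∈ T) : leechLattice ≤ T := by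
  classical
  have hzero : ∀ {x : GolayPt → ℤ}, IsLVec 0 ∅ x → x ∈ T := by
    intro x hx
    obtain ⟨y, hy, ⟨k, hk⟩⟩ := hx.param empty_mem_code
    have e : x = ∑ i, y i • (Pi.single i 4 - Pi.single none 4 : GolayPt → ℤ) +
        k • Pi.single none 8 := by
      funext j
      have h : ∀ i : GolayPt, ((y i • (Pi.single i 4 - Pi.single none 4 : GolayPt → ℤ)) : GolayPt → ℤ) j =
          (if i = j then 4 * y i else 0) - y i * (Pi.single none 4 : GolayPt → ℤ) j := by
        intro i
        by_cases h : i = j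
        · subst h; simp [mul_comm, mul_sub]
        · simp [h, Ne.symm h, mul_sub]
      rw [Pi.add_apply, Finset.sum_apply, Finset.sum_congr rfl (fun i _ => h i),
        Finset.sum_sub_distrib, Finset.sum_ite_eq' Finset.univ j, if_pos (Finset.mem_univ _),
        ← Finset.sum_mul, Pi.smul_apply, smul_eq_mul]
      rw [sub_zero] at hk
      rw [hk, hy j]
      simp [bit, Pi.single_apply]
      split_ifs <;> ring
    rw [e]
    exact add_mem (sum_mem fun i _ => zsmul_mem (h4 i) _) (zsmul_mem h8 _)
  have hdiff : ∀ {m : ℤ} {c : Finset GolayPt} {x y : GolayPt → ℤ}, IsLVec m c x → IsLVec m c y →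
      x - y ∈ T := by
    intro m c x y hx hy
    refine hzero ?_
    have := hx.add hy.neg
    rwa [add_neg_cancel, symmDiff_self, ← sub_eq_add_neg] at this
  have h0 : rep 0 ∅ ∈ T := hzero (rep_isLVec empty_mem_code)
  let W : Submodule (ZMod 2) (GolayPt → ZMod 2) :=
    { carrier := {w | w ∈ golayCode ∧ rep 0 (support₂ w) ∈ T}
      zero_mem' := by
        refine ⟨zero_mem _, ?_⟩
        rw [show support₂ (0 : GolayPt → ZMod 2) = ∅ by simp [support₂]]
        exact h0
      add_mem' := by
        rintro v w ⟨hv, hv'⟩ ⟨hw, hw'⟩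
        refine ⟨add_mem hv hw, ?_⟩
        have hcv : support₂ v ∈ code := ⟨v, hv, rfl⟩
        have hcw : support₂ w ∈ code := ⟨w, hw, rfl⟩
        have e : support₂ (v + w) = symmDiff (support₂ v) (support₂ w) := by
          ext p
          rcases zmod2_cases (v p) with a | a <;> rcases zmod2_cases (w p) with b | b <;>
            simp [support₂, Finset.mem_symmDiff, a, b, show (1 : ZMod 2) + 1 = 0 by decide]
        rw [e]
        have h1 := (rep_isLVec (m := 0) hcv).add (rep_isLVec (m := 0) hcw)
        rw [add_zero] at h1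
        have := sub_mem (add_mem hv' hw') (hdiff h1 (rep_isLVec (symmDiff_mem_code hcv hcw)))
        rwa [sub_sub_cancel] at this
      smul_mem' := by
        intro a w hw
        rcases zmod2_cases a with rfl | rfl
        · refine ⟨by rw [zero_smul]; exact zero_mem _, ?_⟩
          rw [zero_smul, show support₂ (0 : GolayPt → ZMod 2) = ∅ by simp [support₂]]
          exact h0
        · rwa [one_smul] }
  have hW : golayCode ≤ W := by
    rw [Golay.golayCode_eq]
    rintro _ ⟨m, -, rfl⟩
    refine Golay.toWord_combAux_mem W _ _ fun b hb' => ⟨Golay.basisN_mem b hb', ?_⟩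
    rw [Golay.support₂_toWord]
    exact hb b hb'
  intro x hx
  obtain ⟨m, hm, c, hc, hl⟩ := exists_normal_form hx
  obtain ⟨w, hw, hwc⟩ := hc
  have hc0 : rep 0 c ∈ T := by
    have := (hW hw).2
    rwa [show support₂ w = c from hwc] at this
  rcases hm with rfl | rfl
  · have := add_mem (hdiff hl (rep_isLVec ⟨w, hw, hwc⟩)) hc0
    rwa [sub_add_cancel] at this
  · have h2 := (rep_isLVec (m := 1) empty_mem_code).add (rep_isLVec (m := 0) (c := c) ⟨w, hw, hwc⟩)
    rw [show (1 : ℤ) + 0 = 1 from rfl, show symmDiff (∅ : Finset GolayPt) c = c from bot_symmDiff c] at h2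
    have := add_mem (hdiff hl h2) (add_mem h1 hc0)
    rwa [sub_add_cancel] at this

/-- The matrix with the given columns, in the order of the points. -/
def tabMat (t : List (List ℤ)) : Matrix GolayPt GolayPt ℤ :=
  Matrix.of fun p i => (t.getD (idx i) []).getD (idx p) 0

/-- The linear map of a table. -/
def tabHom (t : List (List ℤ)) : (GolayPt → ℤ) →+ (GolayPt → ℤ) where
  toFun x := tabMat t *ᵥ x
  map_zero' := Matrix.mulVec_zero _
  map_add' := Matrix.mulVec_add _

/-- The image is eight times a lattice vector. -/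
def eighthB (x : GolayPt → ℤ) : Bool :=
  ((List.range 24).all fun i => x (pt i) % 8 == 0) && memB fun p => x p / 8

/-- Multiplication by eight. -/
def oct : (GolayPt → ℤ) →+ (GolayPt → ℤ) where
  toFun x := 8 • x
  map_zero' := smul_zero _
  map_add' x y := smul_add _ x y

theorem mem_oct_of_eighthB {x : GolayPt → ℤ} (h : eighthB x = true) : x ∈ leechLattice.map oct := by
  simp only [eighthB, Bool.and_eq_true, List.all_eq_true, List.mem_range, beq_iff_eq] at h
  obtain ⟨h1, h2⟩ := h
  refine ⟨_, mem_of_memB h2, funext fun p => ?_⟩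
  have h := h1 (idx p) (idx_lt p)
  rw [pt_idx] at h
  show 8 • (x p / 8) = x p
  simp only [nsmul_eq_mul, Nat.cast_ofNat]
  omega

/-- The tests making a table and its transpose an automorphism of the lattice. -/
structure AutTab (t t' : List (List ℤ)) : Prop where
  transpose : ∀ p q : GolayPt,
    (t'.getD (idx q) []).getD (idx p) 0 = (t.getD (idx p) []).getD (idx q) 0
  left : ∀ p q, (tabMat t' * tabMat t) p q = if p = q then 64 else 0
  right : ∀ p q, (tabMat t * tabMat t') p q = if p = q then 64 else 0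
  four : ∀ i : GolayPt, eighthB (tabHom t (Pi.single i 4 - Pi.single none 4)) = true ∧
    eighthB (tabHom t' (Pi.single i 4 - Pi.single none 4)) = true
  eight : eighthB (tabHom t (Pi.single none 8)) = true ∧ eighthB (tabHom t' (Pi.single none 8)) = true
  odd : eighthB (tabHom t (rep 1 ∅)) = true ∧ eighthB (tabHom t' (rep 1 ∅)) = true
  word : ∀ b ∈ basisN, eighthB (tabHom t (rep 0 (toSet b))) = true ∧
    eighthB (tabHom t' (rep 0 (toSet b))) = true

namespace AutTab

variable {t t' : List (List ℤ)}

/-- One eighth of the linear map. -/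
def fn (t : List (List ℤ)) (x : GolayPt → ℤ) : GolayPt → ℤ := fun p => tabHom t x p / 8

theorem spec (h : AutTab t t') {x : GolayPt → ℤ} (hx : x ∈ leechLattice) :
    (fn t x ∈ leechLattice ∧ tabHom t x = 8 • fn t x) ∧
      fn t' x ∈ leechLattice ∧ tabHom t' x = 8 • fn t' x := by
  have key : ∀ u : List (List ℤ), (∀ i, eighthB (tabHom u (Pi.single i 4 - Pi.single none 4)) = true) →
      eighthB (tabHom u (Pi.single none 8)) = true → eighthB (tabHom u (rep 1 ∅)) = true →
      (∀ b ∈ basisN, eighthB (tabHom u (rep 0 (toSet b))) = true) →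
      fn u x ∈ leechLattice ∧ tabHom u x = 8 • fn u x := by
    intro u a b c d
    have hle : leechLattice ≤ (leechLattice.map oct).comap (tabHom u) :=
      leech_le (fun i => mem_oct_of_eighthB (a i)) (mem_oct_of_eighthB b) (mem_oct_of_eighthB c)
        fun w hw => mem_oct_of_eighthB (d w hw)
    obtain ⟨z, hz, he⟩ := hle hx
    have : fn u x = z := by
      funext p
      show tabHom u x p / 8 = z p
      rw [← he]
      show (8 • z) p / 8 = z p
      simp
    rw [this]
    exact ⟨hz, he.symm⟩
  exact ⟨key t (fun i => (h.four i).1) h.eight.1 h.odd.1 fun b hb => (h.word b hb).1,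
    key t' (fun i => (h.four i).2) h.eight.2 h.odd.2 fun b hb => (h.word b hb).2⟩

theorem symm (h : AutTab t t') : AutTab t' t :=
  ⟨fun p q => (h.transpose q p).symm, h.right, h.left, fun i => ⟨(h.four i).2, (h.four i).1⟩,
    ⟨h.eight.2, h.eight.1⟩, ⟨h.odd.2, h.odd.1⟩, fun b hb => ⟨(h.word b hb).2, (h.word b hb).1⟩⟩

theorem comp_eq (h : AutTab t t') (x : GolayPt → ℤ) : tabHom t' (tabHom t x) = (64 : ℤ) • x := by
  show tabMat t' *ᵥ (tabMat t *ᵥ x) = _
  rw [Matrix.mulVec_mulVec, show tabMat t' * tabMat t = (64 : ℤ) • (1 : Matrix GolayPt GolayPt ℤ) from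
    Matrix.ext fun p q => by rw [h.left]; simp [Matrix.one_apply], Matrix.smul_mulVec,
    Matrix.one_mulVec]

theorem cancel (h : AutTab t t') {x : GolayPt → ℤ} (hx : x ∈ leechLattice) :
    fn t' (fn t x) = x := by
  obtain ⟨⟨h1, h2⟩, -⟩ := h.spec hx
  obtain ⟨-, -, h3⟩ := h.spec h1
  have h4 := h.comp_eq x
  rw [h2, map_nsmul, h3] at h4
  funext p
  have := congrFun h4 p
  simp only [Pi.smul_apply, Pi.mul_apply, Pi.ofNat_apply, nsmul_eq_mul, smul_eq_mul, Nat.cast_ofNat] at this
  omega

theorem sqNorm_fn (h : AutTab t t') {x : GolayPt → ℤ} (hx : x ∈ leechLattice) :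
    sqNorm (fn t x) = sqNorm x := by
  have h1 : dotInt (tabHom t x) (tabHom t x) = dotInt x (tabHom t' (tabHom t x)) := by
    simp only [dotInt, tabHom, AddMonoidHom.coe_mk, ZeroHom.coe_mk, Matrix.mulVec, dotProduct,
      Finset.sum_mul, Finset.mul_sum]
    rw [Finset.sum_comm]
    refine Finset.sum_congr rfl fun p _ => Finset.sum_congr rfl fun q _ =>
      Finset.sum_congr rfl fun r _ => ?_
    rw [show tabMat t' p q = tabMat t q p from h.transpose p q]
    ring
  rw [h.comp_eq, (h.spec hx).1.2] at h1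
  simp only [dotInt, sqNorm, Pi.smul_apply, nsmul_eq_mul, smul_eq_mul, Nat.cast_ofNat] at h1 ⊢
  have e : ∑ p, 8 * fn t x p * (8 * fn t x p) = 64 * ∑ p, fn t x p ^ 2 := by
    rw [Finset.mul_sum]; exact Finset.sum_congr rfl fun p _ => by ring
  have e' : ∑ p, x p * (64 * x p) = 64 * ∑ p, x p ^ 2 := by
    rw [Finset.mul_sum]; exact Finset.sum_congr rfl fun p _ => by ring
  rw [e, e'] at h1
  omega

/-- The permutation of the lattice. -/
noncomputable def perm (h : AutTab t t') : Equiv.Perm leechLattice where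
  toFun v := ⟨fn t v, (h.spec v.2).1.1⟩
  invFun v := ⟨fn t' v, (h.spec v.2).2.1⟩
  left_inv v := Subtype.ext (h.cancel v.2)
  right_inv v := Subtype.ext (h.symm.cancel v.2)

/-- The automorphism of the lattice. -/
noncomputable def elt (h : AutTab t t') : Co0 :=
  ⟨h.perm, fun v w => by
    refine Subtype.ext (funext fun p => ?_)
    show tabHom t ((v : GolayPt → ℤ) + w) p / 8 = tabHom t v p / 8 + tabHom t w p / 8
    rw [map_add, Pi.add_apply, Int.add_ediv_of_dvd_left]
    rw [(h.spec v.2).1.2]
    exact ⟨fn t v p, by simp⟩,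
  fun v => h.sqNorm_fn v.2⟩

theorem coe_elt_smul (h : AutTab t t') (v : leechLattice) :
    ((h.elt • v : leechLattice) : GolayPt → ℤ) = fn t v := rfl

theorem coe_elt_frame (h : AutTab t t') (i p : GolayPt) :
    ((h.elt • frame i : leechLattice) : GolayPt → ℤ) p = tabMat t p i := by
  rw [coe_elt_smul]
  show (tabMat t *ᵥ Pi.single i 8) p / 8 = _
  rw [Matrix.mulVec_single]
  simp [Matrix.col]

end AutTab

end Cfsg.Agent.MonHe94
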