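import Cfsg.Agent.MonHe94.Data
import Cfsg.Agent.MonHe94.Lattice
import Cfsg.Agent.Sporadic96.M24.Seven

/-!
Finite checks for the classes fixed by an element of order 7 of cycle type 1^3 7^3.
-/

set_option autoImplicit false
set_option maxRecDepth 100000

namespace Cfsg.Agent.MonHe94

open Cfsg Cfsg.Agent.Leech
open Cfsg.Agent.Golay (idx pt toSet inCode basisN comp idTab isPermTab checkAut imgN maps)
open Cfsg.Agent.Sporadic96 (seven7Tab sevenNTab)

/-- A vector constant on the six orbits. -/
def orbVec (l : List ℤ) : GolayPt → ℤ := fun p => l.getD (orbTab.getD (idx p) 0) 0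

/-- The representative of a fixed class. -/
def W (m : ℕ) : GolayPt → ℤ := orbVec (witTab.getD m [])

/-- The sum of basic representatives over the bits of `m`. -/
def combW (m : ℕ) : GolayPt → ℤ := fun p =>
  ∑ i : Fin 6, if m.testBit i then W (2 ^ (i : ℕ)) p else 0

/-- The tables of the powers of the element. -/
def powTab (k : ℕ) : List ℕ := (List.range k).foldl (fun a _ => comp seven7Tab a) idTab

/-- The seven tables. -/
def powTabs : List (List ℕ) := (List.range 7).map powTab

/-- The sum over the powers of the element. -/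
def avg (x : GolayPt → ℤ) : GolayPt → ℤ := fun p =>
  (powTabs.map fun l => x (pt (l.getD (idx p) 0))).sum

/-- A signed permutation given by a table. -/
def tabMono (l : List ℕ) (c : ℕ) (x : GolayPt → ℤ) : GolayPt → ℤ := fun p =>
  let y := x (pt (l.idxOf (idx p)))
  if c.testBit (idx p) then -y else y

theorem witTab_facts : ∀ m : Fin 64, memB (W m) = true ∧
    sqNorm (W m) = ((normTab.getD m 0 : ℕ) : ℤ) := by decide +kernel

theorem comb_facts : ∀ m : Fin 64, congB (combW m) (W m) = true := by decide +kernel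

theorem norm_facts : ∀ m : Fin 64,
    (normTab.getD m 0 = 0 ↔ (m : ℕ) = 0) ∧ normTab.getD m 0 ≤ 64 ∧
    (normTab.getD m 0 = 64 ↔ (m : ℕ) ∈ shellTab) := by decide +kernel

theorem pair_facts : ∀ m : Fin 64, (m : ℕ) ≠ 0 → pairTab.getD m 0 < 64 ∧
    ¬ (16 : ℤ) ∣ dotInt (W m) (W (pairTab.getD m 0)) := by decide +kernel

theorem four_facts : ∀ i : GolayPt, avgFour.getD (idx i) 0 < 64 ∧
    congB (avg (Pi.single i 4 - Pi.single none 4)) (W (avgFour.getD (idx i) 0)) = true := by
  decide +kernel

theorem two_facts : congB (avg (Pi.single none 8)) (W 1) = true ∧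
    congB (avg (rep 1 ∅)) (W 29) = true := by decide +kernel

theorem word_facts : ∀ k : Fin 12, avgCode.getD k 0 < 64 ∧
    congB (avg (rep 0 (toSet (basisN.getD k 0)))) (W (avgCode.getD k 0)) = true := by
  decide +kernel

theorem basisN_length : basisN.length = 12 := rfl

theorem tau_aut : AutTab tauTab tauTrTab :=
  ⟨by decide +kernel, by decide +kernel, by decide +kernel, by decide +kernel, by decide +kernel,
    by decide +kernel, by decide +kernel⟩

theorem iota_aut : AutTab iotaTab iotaTrTab :=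
  ⟨by decide +kernel, by decide +kernel, by decide +kernel, by decide +kernel, by decide +kernel,
    by decide +kernel, by decide +kernel⟩

/-- `tau` commutes with the element, `iota` inverts it. -/
theorem tau_iota_comm : ∀ i p : GolayPt,
    tabMat tauTab (pt (seven7Tab.getD (idx p) 0)) (pt (seven7Tab.getD (idx i) 0)) = tabMat tauTab p i ∧
    tabMat iotaTab p (pt (seven7Tab.getD (idx i) 0)) =
      tabMat iotaTab (pt (seven7Tab.getD (idx p) 0)) i := by
  decide +kernel

theorem tau_moves : congB (fun p => tabMat tauTab p none) (W 2) = true := by decide +kernel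

theorem rep_facts : ∀ r : Fin 6,
    isPermTab (repTab.getD r []) = true ∧ checkAut (repTab.getD r []) = true ∧
    comp (repTab.getD r []) seven7Tab = comp seven7Tab (repTab.getD r []) := by decide +kernel

theorem rep_perms : ∀ a b c : Fin 24, (a : ℕ) ∈ [0, 1, 8] → (b : ℕ) ∈ [0, 1, 8] → (c : ℕ) ∈ [0, 1, 8] →
    a ≠ b → a ≠ c → b ≠ c → ∃ r : Fin 6, (repTab.getD r []).getD 0 0 = a ∧
      (repTab.getD r []).getD 1 0 = b ∧ (repTab.getD r []).getD 8 0 = c := by decide +kernel

theorem fixCode_facts : ∀ j : Fin 8, inCode (fixCode.getD j 0) = true ∧ fixCode.getD j 0 < 2 ^ 24 ∧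
    maps seven7Tab (fixCode.getD j 0) (fixCode.getD j 0) = true := by decide +kernel

theorem fixCode_complete : ∀ m : Fin 64,
    inCode ((List.range 24).foldl
      (fun a i => if (m : ℕ).testBit (orbTab.getD i 0) then a + 2 ^ i else a) 0) = true →
    (List.range 24).foldl
      (fun a i => if (m : ℕ).testBit (orbTab.getD i 0) then a + 2 ^ i else a) 0 ∈ fixCode := by
  decide +kernel

theorem act_facts : ∀ r : Fin 6, ∀ j : Fin 8, ∀ k : Fin 3,
    ((actTab.getD r []).getD j []).getD k 0 < 8 ∧
    congB (tabMono (repTab.getD r []) (fixCode.getD j 0) (W (2 ^ (k : ℕ))))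
      (W (((actTab.getD r []).getD j []).getD k 0)) = true := by decide +kernel

theorem act_faithful : ∀ r : Fin 6, ∀ j : Fin 8,
    (∀ k : Fin 3, ((actTab.getD r []).getD j []).getD k 0 = 2 ^ (k : ℕ)) →
      (r : ℕ) = 0 ∧ ((j : ℕ) = 0 ∨ (j : ℕ) = 7) := by decide +kernel

theorem reach_facts : ∀ m : Fin 8, 2 ≤ (m : ℕ) →
    (reachTab.getD m (0, 0)).1 < 6 ∧ (reachTab.getD m (0, 0)).2 < 8 ∧
      ((actTab.getD (reachTab.getD m (0, 0)).1 []).getD (reachTab.getD m (0, 0)).2 []).getD 1 0 = m := by
  decide +kernel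

theorem shell_small : ∀ m : Fin 64, (m : ℕ) ∈ shellTab ↔
    ((m : ℕ) ≠ 0 ∧ ((m : ℕ) < 8 ∨ (m : ℕ) % 8 = 0)) := by decide +kernel

theorem orb_shift : ∀ p : GolayPt,
    orbTab.getD (seven7Tab.getD (idx p) 0) 0 = orbTab.getD (idx p) 0 := by decide +kernel

theorem orb_reach : ∀ p : GolayPt, ∃ k : Fin 7,
    idx p = (powTab k).getD ([0, 1, 2, 3, 6, 8].getD (orbTab.getD (idx p) 0) 0) 0 := by decide +kernel

theorem seven_fixed : ∀ p : GolayPt,
    seven7Tab.getD (idx p) 0 = idx p ↔ idx p ∈ [0, 1, 8] := by decide +kernel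

end Cfsg.Agent.MonHe94
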