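import Cfsg.Agent.MonHe94.Cert
import Cfsg.Agent.Monster39.Stabilizer

/-!
The classes of the Leech lattice modulo 2 fixed by an element of order 7 of cycle type 1^3 7^3, and the
monomial elements commuting with it.
-/

set_option autoImplicit false
set_option maxRecDepth 100000

namespace Cfsg.Agent.MonHe94

open Cfsg Cfsg.Agent.Leech
open Cfsg.Agent.Golay (idx pt toSet inCode basisN Tab comp idTab isPermTab checkAut imgN maps)
open Cfsg.Agent.Sporadic96 (seven7Tab sevenEl tab_sevenEl orderOf_sevenEl tab_pow_foldl)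
open Cfsg.Agent.Monster39 (permHom mono_mul_mono)
open scoped Pointwise

/-- The lattice modulo its double. -/
abbrev L2 : Type := leechLattice ⧸ double

/-- The class of a lattice vector. -/
abbrev cl (v : leechLattice) : L2 := QuotientAddGroup.mk v

theorem cl_eq_iff {v w : leechLattice} :
    cl v = cl w ↔ Cong (v : GolayPt → ℤ) (w : GolayPt → ℤ) := Leech.mk_eq_iff

theorem add_self (x : L2) : x + x = 0 := by
  induction x using QuotientAddGroup.induction_on with
  | H v =>
    rw [← QuotientAddGroup.mk_add, QuotientAddGroup.eq_zero_iff, mem_double]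
    exact ⟨v, v.2, by rw [AddSubgroup.coe_add, two_nsmul]⟩

/-- The action on classes as an additive map. -/
noncomputable def actHom (g : Co0) : L2 →+ L2 :=
  QuotientAddGroup.map double double (hom g) (by
    intro v hv
    rw [mem_double] at hv
    rw [AddSubgroup.mem_comap, mem_double]
    obtain ⟨z, hz, e⟩ := hv
    refine ⟨((g • (⟨z, hz⟩ : leechLattice) : leechLattice) : GolayPt → ℤ), SetLike.coe_mem _, ?_⟩
    have e' : v = 2 • (⟨z, hz⟩ : leechLattice) := Subtype.ext e
    have := congrArg (hom g) e'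
    rw [map_nsmul] at this
    exact congrArg Subtype.val this)

theorem actHom_cl (g : Co0) (v : leechLattice) : actHom g (cl v) = cl (g • v) := rfl

noncomputable instance classAction : MulAction Co0 L2 where
  smul g x := actHom g x
  one_smul x := by
    induction x using QuotientAddGroup.induction_on with
    | H v =>
      show actHom 1 (cl v) = cl v
      rw [actHom_cl, one_smul]
  mul_smul g h x := by
    induction x using QuotientAddGroup.induction_on with
    | H v =>
      show actHom (g * h) (cl v) = actHom g (actHom h (cl v))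
      rw [actHom_cl, actHom_cl, actHom_cl, mul_smul]

theorem smul_cl (g : Co0) (v : leechLattice) : g • cl v = cl (g • v) := rfl

theorem smul_class_add (g : Co0) (x y : L2) : g • (x + y) = g • x + g • y := map_add (actHom g) x y

theorem smul_class_zero (g : Co0) : g • (0 : L2) = 0 := map_zero (actHom g)

theorem negOne_smul_class (x : L2) : negOne • x = x := by
  induction x using QuotientAddGroup.induction_on with
  | H v =>
    show cl (negOne • v) = cl v
    rw [cl_eq_iff, negOne_smul, AddSubgroup.coe_neg]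
    exact (cong_neg v.2).symm

/-- The representative as a lattice element. -/
def Wl (m : Fin 64) : leechLattice := ⟨W m, mem_of_memB (witTab_facts m).1⟩

theorem sqNorm_Wl (m : Fin 64) :
    sqNorm (Wl m : GolayPt → ℤ) = ((normTab.getD m 0 : ℕ) : ℤ) := (witTab_facts m).2

/-- The fixed classes. -/
def Phi (m : Fin 64) : L2 := cl (Wl m)

/-- The bitwise sum. -/
def xr (a b : Fin 64) : Fin 64 :=
  ⟨(a : ℕ) ^^^ (b : ℕ), Nat.xor_lt_two_pow (n := 6) a.2 b.2⟩

/-- The powers of two below 64. -/
def bitPt (i : Fin 6) : Fin 64 := ⟨2 ^ (i : ℕ), Nat.pow_lt_pow_right (by norm_num) i.2⟩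

theorem Phi_eq_sum (m : Fin 64) :
    Phi m = ∑ i : Fin 6, if (m : ℕ).testBit i then Phi (bitPt i) else 0 := by
  let s : leechLattice := ∑ i : Fin 6, if (m : ℕ).testBit i then Wl (bitPt i) else 0
  have hs : (s : GolayPt → ℤ) = combW m := by
    funext p
    simp only [s, combW, AddSubgroup.val_finsetSum, Finset.sum_apply]
    refine Finset.sum_congr rfl fun i _ => ?_
    split_ifs <;> rfl
  have h1 : cl s = Phi m := by
    rw [Phi, cl_eq_iff, hs]
    exact cong_of_congB (comb_facts m)
  rw [← h1]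
  show QuotientAddGroup.mk' double s = _
  simp only [s, map_sum, apply_ite (QuotientAddGroup.mk' double), map_zero]
  rfl

theorem Phi_add (a b : Fin 64) : Phi a + Phi b = Phi (xr a b) := by
  rw [Phi_eq_sum a, Phi_eq_sum b, Phi_eq_sum (xr a b), ← Finset.sum_add_distrib]
  refine Finset.sum_congr rfl fun i _ => ?_
  show _ = if ((a : ℕ) ^^^ (b : ℕ)).testBit i then _ else _
  rw [Nat.testBit_xor]
  cases (a : ℕ).testBit i <;> cases (b : ℕ).testBit i <;> simp [add_self]

theorem Phi_zero : Phi 0 = 0 := by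
  rw [Phi_eq_sum]
  simp

theorem norm_unique {v w : leechLattice} (h : cl v = cl w)
    (hv : sqNorm (v : GolayPt → ℤ) ≤ 64) (hw : sqNorm (w : GolayPt → ℤ) ≤ 64) :
    sqNorm (v : GolayPt → ℤ) = sqNorm (w : GolayPt → ℤ) :=
  Leech.sqNorm_eq_of_cong Leech.noRoots v.2 hv hw (cl_eq_iff.1 h)

theorem Phi_injective : Function.Injective Phi := by
  intro a b h
  have h1 : Phi (xr a b) = Phi 0 := by rw [← Phi_add, h, add_self, Phi_zero]
  have h2 := norm_unique h1
    (by rw [sqNorm_Wl]; exact_mod_cast (norm_facts _).2.1)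
    (by rw [sqNorm_Wl]; exact_mod_cast (norm_facts _).2.1)
  rw [sqNorm_Wl, sqNorm_Wl, Int.ofNat_inj, (norm_facts 0).1.2 rfl] at h2
  have h3 : (a : ℕ) ^^^ (b : ℕ) = 0 := (norm_facts (xr a b)).1.1 h2
  exact Fin.ext (Nat.xor_eq_zero_iff.1 h3)

theorem Phi_ne_zero {m : Fin 64} (h : m ≠ 0) : Phi m ≠ 0 :=
  fun e => h (Phi_injective (e.trans Phi_zero.symm))

/-- The fixed classes as a subgroup. -/
def phiSub : AddSubgroup L2 where
  carrier := Set.range Phi
  zero_mem' := ⟨0, Phi_zero⟩
  add_mem' := by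
    rintro _ _ ⟨a, rfl⟩ ⟨b, rfl⟩
    exact ⟨xr a b, (Phi_add a b).symm⟩
  neg_mem' := by
    rintro _ ⟨a, rfl⟩
    exact ⟨a, (neg_eq_of_add_eq_zero_left (add_self _)).symm⟩

/-- The element of order 7 in Co0. -/
noncomputable def p7 : Co0 := permHom sevenEl

theorem permHom_apply (σ : M24) : permHom σ = mono σ empty_mem_code := rfl

theorem coe_perm_smul (σ : M24) (v : leechLattice) (p : GolayPt) :
    ((permHom σ • v : leechLattice) : GolayPt → ℤ) p = (v : GolayPt → ℤ) (σ.1.symm p) := by
  rw [permHom_apply, coe_mono_smul]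
  simp [signedPerm]

theorem sevenEl_pow_seven : (sevenEl : M24) ^ 7 = 1 := by
  apply Subtype.ext
  rw [SubmonoidClass.coe_pow, ← orderOf_sevenEl, pow_orderOf_eq_one]
  rfl

theorem permHom_injective : Function.Injective permHom :=
  fun _ _ h => (mono_injective h).1

theorem orderOf_p7 : orderOf p7 = 7 := by
  rw [p7, orderOf_injective permHom permHom_injective, ← orderOf_sevenEl, Subgroup.orderOf_coe]

theorem p7_smul_Phi (m : Fin 64) : p7 • Phi m = Phi m := by
  have : p7 • Wl m = Wl m := by
    refine Subtype.ext (funext fun p => ?_)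
    rw [p7, coe_perm_smul]
    obtain ⟨q, rfl⟩ := (sevenEl : M24).1.surjective p
    rw [Equiv.symm_apply_apply, Wl]
    show W m q = W m ((sevenEl : M24).1 q)
    have hi := tab_sevenEl (idx q) (Golay.idx_lt q)
    rw [Golay.pt_idx] at hi
    show List.getD _ _ _ = List.getD _ _ _
    rw [hi, orb_shift]
  show cl (p7 • Wl m) = _
  rw [this]
  rfl

/-- The sum over the powers as an additive map. -/
def avgHom : (GolayPt → ℤ) →+ (GolayPt → ℤ) where
  toFun := avg
  map_zero' := funext fun p => by simp [avg]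
  map_add' x y := funext fun p => by
    simp [avg, List.sum_map_add]

theorem fixed_class {x : L2} (hx : p7 • x = x) : ∃ m, x = Phi m := by
  induction x using QuotientAddGroup.induction_on with
  | H v =>
    let K : AddSubgroup (GolayPt → ℤ) :=
      (phiSub.comap (QuotientAddGroup.mk' double)).map leechLattice.subtype
    have hK : ∀ (y : GolayPt → ℤ) (m : ℕ), m < 64 → congB y (W m) = true → y ∈ K := by
      intro y m hm h
      have hc := cong_of_congB h
      obtain ⟨z, hz, e⟩ := hc
      have hy : y ∈ leechLattice := by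
        rw [← sub_add_cancel y (W m), e]
        exact add_mem (nsmul_mem hz 2) (Wl ⟨m, hm⟩).2
      exact ⟨⟨y, hy⟩, ⟨⟨m, hm⟩, (cl_eq_iff.2 ⟨z, hz, e⟩).symm⟩, rfl⟩
    have hle : leechLattice ≤ K.comap avgHom := by
      refine leech_le (fun i => hK _ _ (four_facts i).1 (four_facts i).2)
        (hK _ 1 (by norm_num) two_facts.1) (hK _ 29 (by norm_num) two_facts.2) fun b hb => ?_
      obtain ⟨k, hk, rfl⟩ := List.mem_iff_getElem.1 hb
      have := word_facts ⟨k, basisN_length ▸ hk⟩
      refine hK _ _ this.1 ?_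
      have e : basisN.getD k 0 = basisN[k] := List.getD_eq_getElem _ _ hk
      rw [← e]
      exact this.2
    obtain ⟨u, hu, hue⟩ := hle v.2
    obtain ⟨m, hm⟩ := hu
    refine ⟨m, ?_⟩
    have hu' : u = ∑ k ∈ Finset.range 7, permHom ((sevenEl : M24) ^ k)⁻¹ • v := by
      refine Subtype.ext (funext fun p => ?_)
      rw [AddSubgroup.val_finsetSum, Finset.sum_apply]
      have : (u : GolayPt → ℤ) = avg v := hue
      rw [this, avg, powTabs, List.map_map, ← List.sum_toFinset _ List.nodup_range,
        List.toFinset_range]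
      refine Finset.sum_congr rfl fun k _ => ?_
      rw [coe_perm_smul]
      show (v : GolayPt → ℤ) _ = (v : GolayPt → ℤ) ((((sevenEl : M24) : Equiv.Perm GolayPt) ^ k)⁻¹⁻¹ p)
      rw [inv_inv, (tab_pow_foldl tab_sevenEl k).apply]
      rfl
    have hst : ∀ k : ℕ, permHom ((sevenEl : M24) ^ k)⁻¹ • cl v = cl v := by
      intro k
      have h1 : p7 ∈ MulAction.stabilizer Co0 (cl v) := hx
      rw [map_inv, map_pow]
      exact inv_mem (pow_mem h1 k)
    have h7 : cl u = cl v := by
      rw [hu']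
      show QuotientAddGroup.mk' double _ = _
      rw [map_sum, Finset.sum_congr rfl (fun k _ => show QuotientAddGroup.mk' double
          (permHom ((sevenEl : M24) ^ k)⁻¹ • v) = cl v from hst k), Finset.sum_const, Finset.card_range,
        show (7 : ℕ) = 2 + (2 + (2 + 1)) from rfl, add_nsmul, add_nsmul, add_nsmul, two_nsmul,
        add_self, zero_add, zero_add, zero_add, one_nsmul]
    exact (h7.symm.trans hm.symm)

/-- The class of the standard frame. -/
def x0 : L2 := cl (frame none)

theorem W_one : ∀ p : GolayPt, W 1 p = (Pi.single (some 0) 8 : GolayPt → ℤ) p := by decide +kernel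

theorem Phi_one : Phi 1 = x0 := by
  rw [Phi, x0, cl_eq_iff]
  have e : (Wl 1 : GolayPt → ℤ) = (frame (some 0) : GolayPt → ℤ) := funext W_one
  rw [e]
  exact (Monster39.cong_frame _).symm

theorem eq_mono_of_fix {g : Co0} (hg : g • x0 = x0) :
    ∃ (σ : M24) (c : Finset GolayPt) (hc : c ∈ code), g = mono σ hc := by
  refine exists_eq_mono fun v hv => ?_
  rw [← stdCross_eq_class] at hv ⊢
  refine ⟨SetLike.coe_mem _, (sqNorm_smul g v).trans hv.2.1, ?_⟩
  exact (cl_eq_iff.1 hg).symm.trans (cong_smul g hv.2.2)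

theorem mono_smul_x0 (σ : M24) {c : Finset GolayPt} (hc : c ∈ code) : mono σ hc • x0 = x0 := by
  rw [x0, smul_cl, cl_eq_iff]
  refine Cong.symm ((stdCross_subset _ ⟨σ.1 none, _, ?_, coe_mono_frame σ hc none⟩).2.2)
  split_ifs <;> simp

theorem smul_fix_code {σ : M24} {c : Finset GolayPt} {k : ℕ} (h : ((σ : M24) ^ k).1 • c = c)
    (hk : k.Coprime (orderOf (σ : M24))) : σ.1 • c = c := by
  obtain ⟨m, hm⟩ := exists_pow_eq_self_of_coprime hk
  have h1 : ((σ : M24) ^ k).1 ∈ MulAction.stabilizer (Equiv.Perm GolayPt) c := h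
  have h2 := pow_mem h1 m
  rw [← SubmonoidClass.coe_pow, hm] at h2
  exact h2

theorem mono_mul_p7_iff (σ : M24) {c : Finset GolayPt} (hc : c ∈ code) (k : ℕ) :
    mono σ hc * p7 = p7 ^ k * mono σ hc ↔
      σ * sevenEl = (sevenEl : M24) ^ k * σ ∧ ((sevenEl : M24) ^ k).1 • c = c := by
  have hpc : ((sevenEl : M24) ^ k).1 • c ∈ code := by
    have : ((sevenEl : M24) ^ k).1 • code = code :=
      MulAction.mem_stabilizer_iff.1 ((sevenEl : M24) ^ k).2
    rw [← this]; exact Set.smul_mem_smul_set hc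
  rw [p7, ← map_pow, permHom_apply, permHom_apply,
    mono_mul_mono (c := c) (d := ∅) hc empty_mem_code hc
      (by rw [Finset.smul_finset_empty]; exact (symmDiff_bot c).symm),
    mono_mul_mono (c := (∅ : Finset GolayPt)) (d := c) empty_mem_code hc hpc (bot_symmDiff _).symm]
  constructor
  · intro h
    obtain ⟨e1, e2⟩ := mono_injective h
    exact ⟨e1, e2.symm⟩
  · rintro ⟨e1, e2⟩
    congr 1
    exact e2.symm

/-- A word fixed by the element, given by the values on the orbits. -/
def orbWord (m : ℕ) : ℕ :=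
  (List.range 24).foldl (fun a i => if m.testBit (orbTab.getD i 0) then a + 2 ^ i else a) 0

theorem orbWord_facts : ∀ m : Fin 64, orbWord m < 2 ^ 24 ∧
    ∀ i : Fin 24, (orbWord m).testBit i = (m : ℕ).testBit (orbTab.getD i 0) := by decide +kernel

theorem exists_bits : ∀ f : Fin 6 → Bool, ∃ m : Fin 64, ∀ j : Fin 6, (m : ℕ).testBit j = f j := by
  decide +kernel

theorem orbTab_lt : ∀ p : GolayPt, orbTab.getD (idx p) 0 < 6 := by decide +kernel

/-- The word of a fixed code word. -/
def fixWord (j : Fin 8) : Finset GolayPt := toSet (fixCode.getD j 0)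

theorem fixWord_mem (j : Fin 8) : fixWord j ∈ code :=
  Golay.mem_supports_iff.2 ⟨_, (fixCode_facts j).1, rfl⟩

theorem fixWord_fixed (j : Fin 8) : (sevenEl : M24).1 • fixWord j = fixWord j :=
  tab_sevenEl.smul_toSet (fixCode_facts j).2.2

theorem fixCode_length : fixCode.length = 8 := rfl

theorem exists_fixWord {c : Finset GolayPt} (hc : c ∈ code)
    (hfix : (sevenEl : M24).1 • c = c) : ∃ j, c = fixWord j := by
  obtain ⟨n, hn, rfl⟩ := Golay.mem_supports_iff.1 hc
  set bp : Fin 6 → GolayPt := fun j => pt ([0, 1, 2, 3, 6, 8].getD j 0) with hbp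
  obtain ⟨m, hm⟩ := exists_bits fun j => decide (bp j ∈ toSet n)
  have hkey : toSet n = toSet (orbWord m) := by
    ext p
    obtain ⟨k, hk⟩ := orb_reach p
    have hh := (orbWord_facts m).2 ⟨idx p, Golay.idx_lt p⟩
    rw [Golay.mem_toSet (n := orbWord m), hh, hm ⟨_, orbTab_lt p⟩, decide_eq_true_eq]
    have hfixk : (((sevenEl : M24) : Equiv.Perm GolayPt) ^ (k : ℕ)) • toSet n = toSet n :=
      pow_mem (show ((sevenEl : M24) : Equiv.Perm GolayPt) ∈
        MulAction.stabilizer (Equiv.Perm GolayPt) (toSet n) from hfix) _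
    have hp : (((sevenEl : M24) : Equiv.Perm GolayPt) ^ (k : ℕ)) (bp ⟨_, orbTab_lt p⟩) = p := by
      apply Golay.idx_injective
      have hlt : [0, 1, 2, 3, 6, 8].getD (orbTab.getD (idx p) 0) 0 < 24 := by
        have h6 := orbTab_lt p
        generalize orbTab.getD (idx p) 0 = i at h6
        interval_cases i <;> decide
      rw [hbp, tab_pow_foldl tab_sevenEl k _ hlt]
      exact hk.symm
    conv_lhs => rw [← hp, Golay.apply_mem_iff_of_smul_eq hfixk]
  have e := Golay.toSet_injOn (Golay.inCode_lt hn) (orbWord_facts m).1 hkey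
  have hmem := fixCode_complete m (by rw [← orbWord, ← e]; exact hn)
  obtain ⟨j, hj, hje⟩ := List.mem_iff_getElem.1 hmem
  refine ⟨⟨j, fixCode_length ▸ hj⟩, ?_⟩
  rw [fixWord, hkey]
  congr 1
  exact hje.symm.trans (List.getD_eq_getElem _ _ hj).symm

/-- The representative permutation. -/
noncomputable def repEl (r : Fin 6) : M24 :=
  ⟨Golay.permOf (repTab.getD r []) (rep_facts r).1,
    (Golay.tab_permOf (rep_facts r).1).mem_M24 (rep_facts r).2.1⟩

theorem tab_repEl (r : Fin 6) : Tab (repEl r).1 (repTab.getD r []) :=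
  Golay.tab_permOf (rep_facts r).1

theorem repEl_comm (r : Fin 6) : repEl r * sevenEl = sevenEl * repEl r :=
  Subtype.ext (Golay.tab_unique ((rep_facts r).2.2 ▸ (tab_repEl r).mul tab_sevenEl)
    (tab_sevenEl.mul (tab_repEl r)))

theorem exists_repEl {σ : M24} (h : σ * sevenEl = sevenEl * σ) :
    ∃ (r : Fin 6) (τ : M24), τ ∈ Subgroup.zpowers sevenEl ∧ σ = repEl r * τ := by
  have hval : ∀ i : ℕ, i ∈ [0, 1, 8] → idx (σ.1 (pt i)) ∈ [0, 1, 8] := by
    intro i hi
    have hi24 : i < 24 := by
      simp only [List.mem_cons, List.not_mem_nil, or_false] at hi; omega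
    rw [← seven_fixed]
    have hfix : (sevenEl : M24).1 (pt i) = pt i := by
      apply Golay.idx_injective
      rw [tab_sevenEl i hi24, Golay.idx_pt hi24]
      have := (seven_fixed (pt i)).2 (by rw [Golay.idx_pt hi24]; exact hi)
      rwa [Golay.idx_pt hi24] at this
    have h1 : (sevenEl : M24).1 (σ.1 (pt i)) = σ.1 (pt i) := by
      rw [← Equiv.Perm.mul_apply, show (sevenEl : M24).1 * σ.1 = σ.1 * (sevenEl : M24).1 from
        (congrArg Subtype.val h).symm, Equiv.Perm.mul_apply, hfix]
    have h2 := tab_sevenEl (idx (σ.1 (pt i))) (Golay.idx_lt _)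
    rw [Golay.pt_idx, h1] at h2
    exact h2.symm
  have hne : ∀ i j : ℕ, i < 24 → j < 24 → i ≠ j → idx (σ.1 (pt i)) ≠ idx (σ.1 (pt j)) :=
    fun i j hi hj hij e => hij (by
      rw [← Golay.idx_pt hi, σ.1.injective (Golay.idx_injective e), Golay.idx_pt hj])
  obtain ⟨r, r0, r1, r8⟩ := rep_perms ⟨_, Golay.idx_lt (σ.1 (pt 0))⟩
    ⟨_, Golay.idx_lt (σ.1 (pt 1))⟩ ⟨_, Golay.idx_lt (σ.1 (pt 8))⟩
    (hval 0 (by simp)) (hval 1 (by simp)) (hval 8 (by simp))
    (fun e => hne 0 1 (by norm_num) (by norm_num) (by norm_num) (congrArg Fin.val e))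
    (fun e => hne 0 8 (by norm_num) (by norm_num) (by norm_num) (congrArg Fin.val e))
    (fun e => hne 1 8 (by norm_num) (by norm_num) (by norm_num) (congrArg Fin.val e))
  refine ⟨r, (repEl r)⁻¹ * σ, ?_, by group⟩
  have hcomm : (repEl r)⁻¹ * σ * sevenEl = sevenEl * ((repEl r)⁻¹ * σ) :=
    ((Commute.inv_left (repEl_comm r)).mul_left h).eq
  have hk := Sporadic96.seven_kernel ((repEl r)⁻¹ * σ).2 (congrArg Subtype.val hcomm) fun p hp => by
    rw [Golay.mem_fixedPts] at hp
    have h2 := tab_sevenEl (idx p) (Golay.idx_lt p)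
    rw [Golay.pt_idx, hp] at h2
    have hin := (seven_fixed p).1 h2.symm
    show (repEl r).1.symm (σ.1 p) = p
    rw [Equiv.symm_apply_eq]
    apply Golay.idx_injective
    rw [(tab_repEl r).apply, Golay.idx_pt ((tab_repEl r).lt (Golay.idx_lt p))]
    conv_lhs => rw [← Golay.pt_idx p]
    simp only [List.mem_cons, List.not_mem_nil, or_false] at hin
    rcases hin with e | e | e <;> rw [e]
    · exact r0.symm
    · exact r1.symm
    · exact r8.symm
  obtain ⟨i, hi⟩ := Subgroup.mem_zpowers_iff.1 hk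
  exact Subgroup.mem_zpowers_iff.2 ⟨i, Subtype.ext (by rw [SubgroupClass.coe_zpow]; exact hi)⟩

theorem repTab_idxOf : ∀ r : Fin 6, ∀ p : GolayPt, (repTab.getD r []).idxOf (idx p) < 24 ∧
    (repTab.getD r []).getD ((repTab.getD r []).idxOf (idx p)) 0 = idx p := by decide +kernel

theorem rep_mono_smul (r : Fin 6) (j : Fin 8) (k : Fin 3) :
    ∃ h : ((actTab.getD r []).getD j []).getD k 0 < 64,
      mono (repEl r) (fixWord_mem j) • Phi (bitPt (k.castLE (by norm_num))) = Phi ⟨_, h⟩ := by
  obtain ⟨h8, hc⟩ := act_facts r j k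
  refine ⟨by omega, ?_⟩
  rw [Phi, Phi, smul_cl, cl_eq_iff]
  have e : ((mono (repEl r) (fixWord_mem j) • Wl (bitPt (k.castLE (by norm_num))) : leechLattice) :
      GolayPt → ℤ) = tabMono (repTab.getD r []) (fixCode.getD j 0) (W (2 ^ (k : ℕ))) := by
    funext p
    obtain ⟨hlt, hget⟩ := repTab_idxOf r p
    have hs : (repEl r).1.symm p = pt ((repTab.getD r []).idxOf (idx p)) := by
      rw [Equiv.symm_apply_eq]
      apply Golay.idx_injective
      rw [tab_repEl r _ hlt, hget]
    rw [coe_mono_smul]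
    simp only [signedPerm, tabMono, hs, fixWord, Golay.mem_toSet]
    rfl
  rw [e]
  exact cong_of_congB hc

end Cfsg.Agent.MonHe94
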