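import Mathlib

/-!
# Tables for the centralizer of an element of order 7 of cycle type 1^3 7^3 in Co1

Certificates, found by computer search, checked in `Cfsg.Agent.MonHe94.Cert`.
-/

set_option autoImplicit false

namespace Cfsg.Agent.MonHe94

/-- The orbit of each point: six orbits. -/
def orbTab : List ℕ := [0, 1, 2, 3, 2, 3, 4, 3, 5, 3, 2, 2, 4, 3, 3, 4, 4, 4, 2, 4, 2, 4, 2, 3]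

/-- A short representative of each fixed class, by its six values on the orbits. -/
def witTab : List (List ℤ) := [
    [0, 0, 0, 0, 0, 0],
    [8, 0, 0, 0, 0, 0],
    [-4, -2, -2, 0, 0, -4],
    [-4, -2, -2, 0, 0, 4],
    [-4, -4, 0, -2, 0, -2],
    [-4, 4, 0, -2, 0, -2],
    [-2, -4, 0, 0, -2, -4],
    [-2, -4, 0, 0, -2, 4],
    [-6, 0, 0, 0, 2, 0],
    [-2, 0, 0, 0, -2, 0],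
    [-4, 0, 0, 2, 0, -2],
    [-4, 0, 0, -2, 0, 2],
    [-4, -2, 2, 0, 0, 0],
    [-4, 2, -2, 0, 0, 0],
    [0, -4, 0, 0, 0, 4],
    [0, -4, 0, 0, 0, -4],
    [-5, -3, 1, -1, -1, 3],
    [-3, 3, -1, 1, 1, -3],
    [-1, 3, -1, -1, -1, -1],
    [-1, -5, -1, -1, -1, -1],
    [-1, 1, 1, 1, -1, 5],
    [-1, 1, 1, 1, -1, -3],
    [-5, -1, -1, 1, -1, 1],
    [-3, 1, 1, -1, 1, -1],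
    [-5, 3, -1, 1, -1, -3],
    [-3, -3, 1, -1, 1, 3],
    [-1, 5, 1, 1, -1, 1],
    [-1, -3, 1, 1, -1, 1],
    [-1, -1, -1, -1, -1, 3],
    [-1, -1, -1, -1, -1, -5],
    [-5, 1, 1, -1, -1, -1],
    [-3, -1, -1, 1, 1, 1],
    [-5, -3, 1, 1, -1, -3],
    [-3, 3, -1, -1, 1, 3],
    [-1, -5, -1, 1, -1, 1],
    [-1, 3, -1, 1, -1, 1],
    [-1, 1, 1, -1, -1, -5],
    [-1, 1, 1, -1, -1, 3],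
    [-3, 1, 1, 1, 1, 1],
    [-5, -1, -1, -1, -1, -1],
    [-5, 3, -1, -1, -1, 3],
    [-3, -3, 1, 1, 1, -3],
    [-1, -3, 1, -1, -1, -1],
    [-1, 5, 1, -1, -1, -1],
    [-1, -1, -1, 1, -1, -3],
    [-1, -1, -1, 1, -1, 5],
    [-3, -1, -1, -1, 1, -1],
    [-5, 1, 1, 1, -1, 1],
    [-2, -2, -2, 0, -2, 0],
    [0, 0, 0, -2, 0, -2],
    [-2, 0, 0, 0, 2, -4],
    [-2, 0, 0, 0, 2, 4],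
    [-4, 4, 0, 0, 0, 0],
    [-4, -4, 0, 0, 0, 0],
    [0, -2, 2, 0, 0, -4],
    [0, -2, 2, 0, 0, 4],
    [-2, 0, 0, -2, -2, -2],
    [0, -2, -2, 0, 0, 0],
    [-4, 0, 0, 0, 0, 4],
    [-4, 0, 0, 0, 0, -4],
    [-2, -4, 0, 0, 2, 0],
    [-2, 4, 0, 0, 2, 0],
    [0, -4, 0, 2, 0, -2],
    [0, -4, 0, -2, 0, 2]]

/-- The squared lengths of the representatives. -/
def normTab : List ℕ := [0, 64, 64, 64, 64, 64, 64, 64, 64, 32, 48, 48, 48, 48, 32, 32, 64, 48, 32, 48, 48, 32, 48, 32, 64, 48, 48, 32, 32, 48, 48, 32, 64, 48, 48, 32, 48, 32, 32, 48, 64, 48, 32, 48, 32, 48, 32, 48, 64, 32, 48, 48, 32, 32, 48, 48, 64, 32, 32, 32, 48, 48, 48, 48]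

/-- The fixed classes of squared length 64. -/
def shellTab : List ℕ := [1, 2, 3, 4, 5, 6, 7, 8, 16, 24, 32, 40, 48, 56]

/-- For each nonzero fixed class, one meeting it oddly. -/
def pairTab : List ℕ := [0, 16, 8, 8, 8, 8, 16, 32, 2, 2, 2, 2, 2, 2, 2, 2, 1, 1, 1, 1, 1, 1, 1, 1, 1, 1, 1, 1, 1, 1, 1, 1, 1, 1, 1, 1, 1, 1, 1, 1, 1, 1, 1, 1, 1, 1, 1, 1, 2, 2, 2, 2, 2, 2, 2, 2, 4, 4, 4, 4, 4, 4, 4, 4]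

/-- The averages of 4(e_i - e_23). -/
def avgFour : List ℕ := [58, 14, 14, 0, 14, 0, 58, 0, 0, 0, 14, 14, 58, 0, 0, 58, 58, 58, 14, 58, 14, 58, 14, 0]

/-- The averages of the basic code words. -/
def avgCode : List ℕ := [7, 55, 58, 14, 14, 52, 14, 14, 63, 14, 14, 14]

/-- The averages of 8 e_23 and of the odd representative. -/
def avgTwo : List ℕ := [1, 29]

/-- The images of the frame under an automorphism commuting with the element. -/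
def tauTab : List (List ℤ) := [
    [2, 0, 0, 2, 0, 2, -2, 2, -2, 2, 0, 0, -2, 2, 2, -2, -2, -2, 0, -2, 0, -2, 0, 2],
    [4, -2, -2, 0, -2, 0, 0, 0, 4, 0, -2, -2, 0, 0, 0, 0, 0, 0, -2, 0, -2, 0, -2, 0],
    [0, 2, 2, 0, 2, 0, 4, 0, 0, 0, -2, -2, 0, 0, 4, 0, 0, 0, -2, 0, 2, 0, -2, 0],
    [0, -2, -2, 0, -2, 0, 4, 0, 0, 0, 2, 2, 0, 0, 4, 0, 0, 0, 2, 0, -2, 0, 2, 0],
    [0, 2, -2, 4, 2, 0, 0, 0, 0, 0, -2, -2, 0, 0, 0, 0, 0, 4, 2, 0, -2, 0, 2, 0],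
    [0, -2, 2, 0, -2, 0, 0, 0, 0, 4, -2, -2, 0, 0, 0, 0, 4, 0, 2, 0, 2, 0, 2, 0],
    [2, 0, 0, -2, 0, -2, 2, -2, -2, 2, 0, 0, -2, 2, -2, -2, -2, 2, 0, 2, 0, 2, 0, 2],
    [0, -2, 2, 0, 2, 0, 0, 0, 0, 0, 2, -2, 0, 4, 0, 4, 0, 0, 2, 0, -2, 0, -2, 0],
    [4, 2, 2, 0, 2, 0, 0, 0, 4, 0, 2, 2, 0, 0, 0, 0, 0, 0, 2, 0, 2, 0, 2, 0],
    [0, -2, -2, 0, 2, 0, 0, 0, 0, 0, 2, -2, 4, 0, 0, 0, 0, 0, -2, 0, 2, 0, 2, 4],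
    [0, 2, 2, 0, -2, 4, 0, 0, 0, 0, 2, -2, 0, 0, 0, 0, 0, 0, -2, 0, -2, 4, 2, 0],
    [0, 2, -2, 0, 2, 0, 0, 0, 0, 4, 2, 2, 0, 0, 0, 0, 4, 0, -2, 0, -2, 0, -2, 0],
    [2, 0, 0, 2, 0, 2, 2, -2, -2, -2, 0, 0, 2, 2, -2, -2, 2, -2, 0, 2, 0, -2, 0, -2],
    [0, -2, 2, 4, -2, 0, 0, 0, 0, 0, 2, 2, 0, 0, 0, 0, 0, 4, -2, 0, 2, 0, -2, 0],
    [0, -2, -2, 0, 2, 4, 0, 0, 0, 0, -2, 2, 0, 0, 0, 0, 0, 0, 2, 0, 2, 4, -2, 0],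
    [2, 0, 0, -2, 0, 2, -2, -2, -2, -2, 0, 0, -2, -2, 2, 2, 2, 2, 0, 2, 0, -2, 0, 2],
    [2, 0, 0, -2, 0, -2, -2, 2, -2, -2, 0, 0, 2, 2, 2, -2, 2, 2, 0, -2, 0, 2, 0, -2],
    [2, 0, 0, -2, 0, 2, 2, 2, -2, 2, 0, 0, 2, -2, -2, 2, -2, 2, 0, -2, 0, -2, 0, -2],
    [0, 2, 2, 0, -2, 0, 0, 0, 0, 0, -2, 2, 4, 0, 0, 0, 0, 0, 2, 0, -2, 0, -2, 4],
    [2, 0, 0, 2, 0, -2, -2, -2, -2, 2, 0, 0, 2, -2, 2, 2, -2, -2, 0, 2, 0, 2, 0, -2],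
    [0, 2, -2, 0, -2, 0, 0, 4, 0, 0, 2, -2, 0, 0, 0, 0, 0, 0, 2, 4, 2, 0, -2, 0],
    [2, 0, 0, 2, 0, -2, 2, 2, -2, -2, 0, 0, -2, -2, -2, 2, 2, -2, 0, -2, 0, 2, 0, 2],
    [0, 2, -2, 0, -2, 0, 0, 0, 0, 0, -2, 2, 0, 4, 0, 4, 0, 0, -2, 0, 2, 0, 2, 0],
    [0, -2, 2, 0, 2, 0, 0, 4, 0, 0, -2, 2, 0, 0, 0, 0, 0, 0, -2, 4, -2, 0, 2, 0]]

/-- The transpose of `tauTab`. -/
def tauTrTab : List (List ℤ) := [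
    [2, 4, 0, 0, 0, 0, 2, 0, 4, 0, 0, 0, 2, 0, 0, 2, 2, 2, 0, 2, 0, 2, 0, 0],
    [0, -2, 2, -2, 2, -2, 0, -2, 2, -2, 2, 2, 0, -2, -2, 0, 0, 0, 2, 0, 2, 0, 2, -2],
    [0, -2, 2, -2, -2, 2, 0, 2, 2, -2, 2, -2, 0, 2, -2, 0, 0, 0, 2, 0, -2, 0, -2, 2],
    [2, 0, 0, 0, 4, 0, -2, 0, 0, 0, 0, 0, 2, 4, 0, -2, -2, -2, 0, 2, 0, 2, 0, 0],
    [0, -2, 2, -2, 2, -2, 0, 2, 2, 2, -2, 2, 0, -2, 2, 0, 0, 0, -2, 0, -2, 0, -2, 2],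
    [2, 0, 0, 0, 0, 0, -2, 0, 0, 0, 4, 0, 2, 0, 4, 2, -2, 2, 0, -2, 0, -2, 0, 0],
    [-2, 0, 4, 4, 0, 0, 2, 0, 0, 0, 0, 0, 2, 0, 0, -2, -2, 2, 0, -2, 0, 2, 0, 0],
    [2, 0, 0, 0, 0, 0, -2, 0, 0, 0, 0, 0, -2, 0, 0, -2, 2, 2, 0, -2, 4, 2, 0, 4],
    [-2, 4, 0, 0, 0, 0, -2, 0, 4, 0, 0, 0, -2, 0, 0, -2, -2, -2, 0, -2, 0, -2, 0, 0],
    [2, 0, 0, 0, 0, 4, 2, 0, 0, 0, 0, 4, -2, 0, 0, -2, -2, 2, 0, 2, 0, -2, 0, 0],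
    [0, -2, -2, 2, -2, -2, 0, 2, 2, 2, 2, 2, 0, 2, -2, 0, 0, 0, -2, 0, 2, 0, -2, -2],
    [0, -2, -2, 2, -2, -2, 0, -2, 2, -2, -2, 2, 0, 2, 2, 0, 0, 0, 2, 0, -2, 0, 2, 2],
    [-2, 0, 0, 0, 0, 0, -2, 0, 0, 4, 0, 0, 2, 0, 0, -2, 2, 2, 4, 2, 0, -2, 0, 0],
    [2, 0, 0, 0, 0, 0, 2, 4, 0, 0, 0, 0, 2, 0, 0, -2, 2, -2, 0, -2, 0, -2, 4, 0],
    [2, 0, 4, 4, 0, 0, -2, 0, 0, 0, 0, 0, -2, 0, 0, 2, 2, -2, 0, 2, 0, -2, 0, 0],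
    [-2, 0, 0, 0, 0, 0, -2, 4, 0, 0, 0, 0, -2, 0, 0, 2, -2, 2, 0, 2, 0, 2, 4, 0],
    [-2, 0, 0, 0, 0, 4, -2, 0, 0, 0, 0, 4, 2, 0, 0, 2, 2, -2, 0, -2, 0, 2, 0, 0],
    [-2, 0, 0, 0, 4, 0, 2, 0, 0, 0, 0, 0, -2, 4, 0, 2, 2, 2, 0, -2, 0, -2, 0, 0],
    [0, -2, -2, 2, 2, 2, 0, 2, 2, -2, -2, -2, 0, -2, 2, 0, 0, 0, 2, 0, 2, 0, -2, -2],
    [-2, 0, 0, 0, 0, 0, 2, 0, 0, 0, 0, 0, 2, 0, 0, 2, -2, -2, 0, 2, 4, -2, 0, 4],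
    [0, -2, 2, -2, -2, 2, 0, -2, 2, 2, -2, -2, 0, 2, 2, 0, 0, 0, -2, 0, 2, 0, 2, -2],
    [-2, 0, 0, 0, 0, 0, 2, 0, 0, 0, 4, 0, -2, 0, 4, -2, 2, -2, 0, 2, 0, 2, 0, 0],
    [0, -2, -2, 2, 2, 2, 0, -2, 2, 2, 2, -2, 0, -2, -2, 0, 0, 0, -2, 0, -2, 0, 2, 2],
    [2, 0, 0, 0, 0, 0, 2, 0, 0, 4, 0, 0, -2, 0, 0, 2, -2, -2, 4, -2, 0, 2, 0, 0]]

/-- The images of the frame under an automorphism inverting the element. -/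
def iotaTab : List (List ℤ) := [
    [0, 2, 2, -2, 2, -2, 0, -2, -2, -2, 2, 2, 0, -2, -2, 0, 0, 0, 2, 0, 2, 0, 2, -2],
    [0, 2, 2, 2, 2, 2, 0, 2, 2, 2, 2, 2, 0, 2, 2, 0, 0, 0, 2, 0, 2, 0, 2, 2],
    [0, 2, 2, 2, 2, 2, 0, -2, 2, -2, -2, 2, 0, 2, -2, 0, 0, 0, -2, 0, -2, 0, -2, -2],
    [-2, 0, 0, 0, 0, 0, -2, 0, 0, 0, 0, 0, -2, 0, 0, -2, -2, -2, 0, 6, 0, -2, 0, 0],
    [0, 2, 2, 2, -2, -2, 0, -2, 2, 2, 2, -2, 0, -2, 2, 0, 0, 0, 2, 0, -2, 0, -2, -2],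
    [-2, 0, 0, 0, 0, 0, -2, 0, 0, 0, 0, 0, -2, 0, 0, -2, 6, -2, 0, -2, 0, -2, 0, 0],
    [0, 2, -2, 2, 2, 2, 0, -2, -2, 2, 2, -2, 0, -2, -2, 0, 0, 0, -2, 0, -2, 0, 2, 2],
    [-2, 0, 0, 0, 0, 0, -2, 0, 0, 0, 0, 0, -2, 0, 0, -2, -2, 6, 0, -2, 0, -2, 0, 0],
    [6, 0, 0, 0, 0, 0, -2, 0, 0, 0, 0, 0, -2, 0, 0, -2, -2, -2, 0, -2, 0, -2, 0, 0],
    [-2, 0, 0, 0, 0, 0, -2, 0, 0, 0, 0, 0, -2, 0, 0, -2, -2, -2, 0, -2, 0, 6, 0, 0],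
    [0, 2, -2, -2, 2, -2, 0, 2, 2, -2, 2, -2, 0, 2, 2, 0, 0, 0, -2, 0, -2, 0, 2, -2],
    [0, 2, 2, 2, -2, -2, 0, 2, 2, -2, -2, -2, 0, -2, -2, 0, 0, 0, -2, 0, 2, 0, 2, 2],
    [0, 2, -2, 2, -2, -2, 0, -2, -2, -2, -2, 2, 0, 2, 2, 0, 0, 0, 2, 0, -2, 0, 2, 2],
    [-2, 0, 0, 0, 0, 0, -2, 0, 0, 0, 0, 0, -2, 0, 0, 6, -2, -2, 0, -2, 0, -2, 0, 0],
    [-2, 0, 0, 0, 0, 0, -2, 0, 0, 0, 0, 0, 6, 0, 0, -2, -2, -2, 0, -2, 0, -2, 0, 0],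
    [0, 2, 2, -2, -2, 2, 0, 2, -2, -2, 2, -2, 0, 2, -2, 0, 0, 0, 2, 0, -2, 0, -2, 2],
    [0, 2, -2, 2, 2, 2, 0, 2, -2, -2, -2, -2, 0, -2, 2, 0, 0, 0, 2, 0, 2, 0, -2, -2],
    [0, 2, 2, -2, 2, -2, 0, 2, -2, 2, -2, 2, 0, -2, 2, 0, 0, 0, -2, 0, -2, 0, -2, 2],
    [0, 2, -2, -2, 2, -2, 0, -2, 2, 2, -2, -2, 0, 2, -2, 0, 0, 0, 2, 0, 2, 0, -2, 2],
    [0, 2, -2, 2, -2, -2, 0, 2, -2, 2, 2, 2, 0, 2, -2, 0, 0, 0, -2, 0, 2, 0, -2, -2],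
    [0, 2, -2, -2, -2, 2, 0, 2, 2, 2, -2, 2, 0, -2, -2, 0, 0, 0, 2, 0, -2, 0, 2, -2],
    [0, 2, 2, -2, -2, 2, 0, -2, -2, 2, -2, -2, 0, 2, 2, 0, 0, 0, -2, 0, 2, 0, 2, -2],
    [0, 2, -2, -2, -2, 2, 0, -2, 2, -2, 2, 2, 0, -2, 2, 0, 0, 0, -2, 0, 2, 0, -2, 2],
    [-2, 0, 0, 0, 0, 0, 6, 0, 0, 0, 0, 0, -2, 0, 0, -2, -2, -2, 0, -2, 0, -2, 0, 0]]

/-- The transpose of `iotaTab`. -/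
def iotaTrTab : List (List ℤ) := [
    [0, 0, 0, -2, 0, -2, 0, -2, 6, -2, 0, 0, 0, -2, -2, 0, 0, 0, 0, 0, 0, 0, 0, -2],
    [2, 2, 2, 0, 2, 0, 2, 0, 0, 0, 2, 2, 2, 0, 0, 2, 2, 2, 2, 2, 2, 2, 2, 0],
    [2, 2, 2, 0, 2, 0, -2, 0, 0, 0, -2, 2, -2, 0, 0, 2, -2, 2, -2, -2, -2, 2, -2, 0],
    [-2, 2, 2, 0, 2, 0, 2, 0, 0, 0, -2, 2, 2, 0, 0, -2, 2, -2, -2, 2, -2, -2, -2, 0],
    [2, 2, 2, 0, -2, 0, 2, 0, 0, 0, 2, -2, -2, 0, 0, -2, 2, 2, 2, -2, -2, -2, -2, 0],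
    [-2, 2, 2, 0, -2, 0, 2, 0, 0, 0, -2, -2, -2, 0, 0, 2, 2, -2, -2, -2, 2, 2, 2, 0],
    [0, 0, 0, -2, 0, -2, 0, -2, -2, -2, 0, 0, 0, -2, -2, 0, 0, 0, 0, 0, 0, 0, 0, 6],
    [-2, 2, -2, 0, -2, 0, -2, 0, 0, 0, 2, 2, -2, 0, 0, 2, 2, 2, -2, 2, 2, -2, -2, 0],
    [-2, 2, 2, 0, 2, 0, -2, 0, 0, 0, 2, 2, -2, 0, 0, -2, -2, -2, 2, -2, 2, -2, 2, 0],
    [-2, 2, -2, 0, 2, 0, 2, 0, 0, 0, -2, -2, -2, 0, 0, -2, -2, 2, 2, 2, 2, 2, -2, 0],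
    [2, 2, -2, 0, 2, 0, 2, 0, 0, 0, 2, -2, -2, 0, 0, 2, -2, -2, -2, 2, -2, -2, 2, 0],
    [2, 2, 2, 0, -2, 0, -2, 0, 0, 0, -2, -2, 2, 0, 0, -2, -2, 2, -2, 2, 2, -2, 2, 0],
    [0, 0, 0, -2, 0, -2, 0, -2, -2, -2, 0, 0, 0, -2, 6, 0, 0, 0, 0, 0, 0, 0, 0, -2],
    [-2, 2, 2, 0, -2, 0, -2, 0, 0, 0, 2, -2, 2, 0, 0, 2, -2, -2, 2, 2, -2, 2, -2, 0],
    [-2, 2, -2, 0, 2, 0, -2, 0, 0, 0, 2, -2, 2, 0, 0, -2, 2, 2, -2, -2, -2, 2, 2, 0],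
    [0, 0, 0, -2, 0, -2, 0, -2, -2, -2, 0, 0, 0, 6, -2, 0, 0, 0, 0, 0, 0, 0, 0, -2],
    [0, 0, 0, -2, 0, 6, 0, -2, -2, -2, 0, 0, 0, -2, -2, 0, 0, 0, 0, 0, 0, 0, 0, -2],
    [0, 0, 0, -2, 0, -2, 0, 6, -2, -2, 0, 0, 0, -2, -2, 0, 0, 0, 0, 0, 0, 0, 0, -2],
    [2, 2, -2, 0, 2, 0, -2, 0, 0, 0, -2, -2, 2, 0, 0, 2, 2, -2, 2, -2, 2, -2, -2, 0],
    [0, 0, 0, 6, 0, -2, 0, -2, -2, -2, 0, 0, 0, -2, -2, 0, 0, 0, 0, 0, 0, 0, 0, -2],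
    [2, 2, -2, 0, -2, 0, -2, 0, 0, 0, -2, 2, -2, 0, 0, -2, 2, -2, 2, 2, -2, 2, 2, 0],
    [0, 0, 0, -2, 0, -2, 0, -2, -2, 6, 0, 0, 0, -2, -2, 0, 0, 0, 0, 0, 0, 0, 0, -2],
    [2, 2, -2, 0, -2, 0, 2, 0, 0, 0, 2, 2, 2, 0, 0, -2, -2, -2, -2, -2, 2, 2, -2, 0],
    [-2, 2, -2, 0, -2, 0, 2, 0, 0, 0, -2, 2, 2, 0, 0, 2, -2, 2, 2, -2, -2, -2, 2, 0]]

/-- Permutations commuting with the element, one for each permutation of its fixed points. -/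
def repTab : List (List ℕ) := [
    [0, 1, 2, 3, 4, 5, 6, 7, 8, 9, 10, 11, 12, 13, 14, 15, 16, 17, 18, 19, 20, 21, 22, 23],
    [1, 8, 3, 17, 13, 21, 10, 19, 0, 16, 14, 5, 20, 15, 6, 4, 18, 2, 9, 22, 23, 11, 7, 12],
    [8, 0, 17, 2, 15, 11, 14, 22, 1, 18, 6, 21, 23, 4, 10, 13, 9, 3, 16, 7, 12, 5, 19, 20],
    [1, 0, 17, 3, 15, 5, 10, 7, 8, 9, 6, 21, 20, 13, 14, 4, 18, 2, 16, 22, 12, 11, 19, 23],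
    [0, 8, 3, 2, 13, 11, 6, 22, 1, 18, 14, 5, 12, 4, 10, 15, 16, 17, 9, 19, 23, 21, 7, 20],
    [8, 1, 2, 17, 4, 21, 14, 19, 0, 16, 10, 11, 23, 15, 6, 13, 9, 3, 18, 7, 20, 5, 22, 12]]

/-- The code words fixed by the element. -/
def fixCode : List ℕ := [0, 2854977, 5508118, 8363095, 8414120, 11269097, 13922238, 16777215]

/-- The images of the first three basic classes under the monomial maps. -/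
def actTab : List (List (List ℕ)) := [
    [[1, 2, 4], [1, 3, 5], [1, 2, 5], [1, 3, 4], [1, 3, 4], [1, 2, 5], [1, 3, 5], [1, 2, 4]],
    [[1, 4, 6], [1, 5, 6], [1, 5, 7], [1, 4, 7], [1, 4, 7], [1, 5, 7], [1, 5, 6], [1, 4, 6]],
    [[1, 6, 2], [1, 6, 3], [1, 7, 2], [1, 7, 3], [1, 7, 3], [1, 7, 2], [1, 6, 3], [1, 6, 2]],
    [[1, 6, 4], [1, 6, 5], [1, 7, 5], [1, 7, 4], [1, 7, 4], [1, 7, 5], [1, 6, 5], [1, 6, 4]],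
    [[1, 4, 2], [1, 5, 3], [1, 5, 2], [1, 4, 3], [1, 4, 3], [1, 5, 2], [1, 5, 3], [1, 4, 2]],
    [[1, 2, 6], [1, 3, 6], [1, 2, 7], [1, 3, 7], [1, 3, 7], [1, 2, 7], [1, 3, 6], [1, 2, 6]]]

/-- How the moved class reaches the others. -/
def reachTab : List (ℕ × ℕ) := [
    (0, 0),
    (0, 0),
    (0, 0),
    (0, 1),
    (1, 0),
    (1, 1),
    (2, 0),
    (2, 2)]

end Cfsg.Agent.MonHe94
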