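import Cfsg.Agent.MonHe94.Rho
import Cfsg.Agent.Monster39.Baby

/-!
An element of order 7 in the centralizer of the central involution in a group of Monster type: its
centralizer in the extraspecial subgroup, and the fusion of the central involution inside its centralizer.
-/

set_option autoImplicit false
set_option maxRecDepth 100000
set_option linter.style.haveILetI false
set_option linter.unusedSectionVars false

namespace Cfsg.Agent.MonHe94

open Cfsg Cfsg.Agent.Leech
open Cfsg.Agent.Monster39 (Setting Cls cj proj proj_eq_one zC zC_comm finiteCo1)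
open scoped Pointwise commutatorElement

/-- Two elements of order 7 in a group whose order is not divisible by 49 generate conjugate subgroups. -/
theorem exists_conj_seven {X : Type*} [Group X] [Finite X] (H : Subgroup X) {a b : X} (ha : a ∈ H)
    (hb : b ∈ H) (hao : orderOf a = 7) (hbo : orderOf b = 7) (h49 : ¬ 49 ∣ Nat.card H) :
    ∃ h ∈ H, ∃ k : ℕ, h * a * h⁻¹ = b ^ k := by
  classical
  haveI : Fact (Nat.Prime 7) := ⟨by norm_num⟩
  have hf : (Nat.card H).factorization 7 = 1 := by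
    have h0 : Nat.card H ≠ 0 := Nat.card_pos.ne'
    have h7 : 7 ∣ Nat.card H := hao ▸ Subgroup.orderOf_dvd_natCard H ha
    have h1 := (Nat.Prime.pow_dvd_iff_le_factorization (by norm_num : Nat.Prime 7) h0 (k := 1)).1 (by simpa using h7)
    have h2 : ¬ 2 ≤ (Nat.card H).factorization 7 := fun h => h49
      ((Nat.Prime.pow_dvd_iff_le_factorization (by norm_num : Nat.Prime 7) h0 (k := 2)).2 h)
    omega
  let A : Sylow 7 H := Sylow.ofCard (Subgroup.zpowers ⟨a, ha⟩)
    (by rw [Nat.card_zpowers, Subgroup.orderOf_mk, hao, hf, pow_one])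
  let B : Sylow 7 H := Sylow.ofCard (Subgroup.zpowers ⟨b, hb⟩)
    (by rw [Nat.card_zpowers, Subgroup.orderOf_mk, hbo, hf, pow_one])
  obtain ⟨h, hh⟩ := MulAction.exists_smul_eq H A B
  have hmem : h * ⟨a, ha⟩ * h⁻¹ ∈ Subgroup.zpowers (⟨b, hb⟩ : H) := by
    have e : ((h • A : Sylow 7 H) : Subgroup H) = Subgroup.zpowers ⟨b, hb⟩ := by rw [hh]; rfl
    rw [← e, Sylow.coe_subgroup_smul]
    exact ⟨⟨a, ha⟩, Subgroup.mem_zpowers _, rfl⟩
  rw [(isOfFinOrder_of_finite _).mem_zpowers_iff_mem_range_orderOf, Finset.mem_image] at hmem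
  obtain ⟨k, -, hk⟩ := hmem
  exact ⟨h, h.2, k, by
    have := congrArg Subtype.val hk
    simpa using this.symm⟩

variable {G : Type*} [Group G] [Finite G] {z : G}
  {Q : Subgroup (Subgroup.centralizer ({z} : Set G))} [Q.Normal]
  {e : (Subgroup.centralizer ({z} : Set G)) ⧸ Q ≃* Spor.Co1}
  {ψ : leechLattice → Q ⧸ Subgroup.center Q}

/-- The situation: a lift of order 7 of the element of Co1. -/
structure Lift (e : (Subgroup.centralizer ({z} : Set G)) ⧸ Q ≃* Spor.Co1)
    (ψ : leechLattice → Q ⧸ Subgroup.center Q) (b : Subgroup.centralizer ({z} : Set G)) : Prop where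
  M : Setting z Q e ψ
  pow : b ^ 7 = 1
  proj_eq : proj e b = beta

variable {b : Subgroup.centralizer ({z} : Set G)}

/-- The centralizer of the element in `Q`. -/
def centR (Q : Subgroup (Subgroup.centralizer ({z} : Set G))) (b : Subgroup.centralizer ({z} : Set G)) :
    Subgroup Q :=
  (Subgroup.centralizer ({b} : Set (Subgroup.centralizer ({z} : Set G)))).subgroupOf Q

theorem mem_centR {q : Q} :
    q ∈ centR Q b ↔ (q : Subgroup.centralizer ({z} : Set G)) * b = b * q := by
  rw [centR, Subgroup.mem_subgroupOf, Subgroup.mem_centralizer_singleton_iff]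

namespace Lift

variable (S : Lift e ψ b)
include S

theorem orderOf_b : orderOf b = 7 := by
  haveI : Fact (Nat.Prime 7) := ⟨by norm_num⟩
  refine orderOf_eq_prime S.pow fun h => ?_
  have h1 := S.proj_eq
  rw [h, map_one] at h1
  have := orderOf_beta
  rw [← h1, orderOf_one] at this
  omega

theorem psi_eq_iff (v w : leechLattice) : ψ v = ψ w ↔ cl v = cl w :=
  (S.M.map_eq_iff v w).trans cl_eq_iff.symm

theorem psi_smul {h : Subgroup.centralizer ({z} : Set G)} {g : Co0} (hg : proj e h = QuotientGroup.mk g)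
    {v : leechLattice} {q : Q} (hq : ψ v = QuotientGroup.mk q) :
    ψ (g • v) = QuotientGroup.mk (cj h q) :=
  S.M.hψ.2.2.2 h g hg.symm v q hq

theorem exists_t : ∃ t : Q, Cls ψ 32 t ∧ t * t = 1 := by
  by_contra hno
  push Not at hno
  obtain ⟨m, hm, hns⟩ := FGS82.counts (Nat.card Q) S.M.qdata le_rfl
  obtain rfl : m = 12 := by
    have := Nat.pow_right_injective (le_refl 2) (S.M.card_Q.symm.trans hm)
    omega
  have hsub : {a : Q | a * a = 1} ⊆ {a : Q | Cls ψ 64 a} ∪ {1, S.M.zQ} := by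
    intro a ha
    by_cases hc : a ∈ Subgroup.center Q
    · exact Or.inr (S.M.mem_center_iff.1 hc)
    · exact Or.inl ((S.M.cls_of_sq hc ha).resolve_left fun h => hno a h ha)
  have h1 := (Set.ncard_le_ncard hsub (Set.toFinite _)).trans (Set.ncard_union_le _ _)
  rw [S.M.ncard_cls.2.2, Set.ncard_pair S.M.zQ_ne_one.symm] at h1
  have hcard : FGS82.nsq Q = {a : Q | a * a = 1}.ncard := by
    rw [FGS82.nsq, ← Nat.card_coe_set_eq]; rfl
  rw [hcard] at hns
  rcases hns with hns | hns <;> norm_num at hns <;> omega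

theorem mem_centR_iff (q : Q) : q ∈ centR Q b ↔ ∃ m, ψ (Wl m) = QuotientGroup.mk q := by
  rw [mem_centR]
  constructor
  · intro h
    obtain ⟨v, hv⟩ := S.M.hψ.2.1 (QuotientGroup.mk q)
    have h1 := S.psi_smul (g := p7) S.proj_eq hv
    have hc : cj b q = q := Subtype.ext (by
      show b * (q : Subgroup.centralizer ({z} : Set G)) * b⁻¹ = q
      rw [← h, mul_inv_cancel_right])
    rw [hc, ← hv, S.psi_eq_iff] at h1
    obtain ⟨m, hm⟩ := fixed_class (x := cl v) h1
    exact ⟨m, by rw [← hv, S.psi_eq_iff]; exact hm.symm⟩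
  · rintro ⟨m, hm⟩
    have h1 := S.psi_smul (g := p7) S.proj_eq hm
    rw [(S.psi_eq_iff (p7 • Wl m) (Wl m)).2 (p7_smul_Phi m), hm, S.M.mk_eq_mk] at h1
    rcases h1 with h1 | h1
    · have h2 : b * (q : Subgroup.centralizer ({z} : Set G)) * b⁻¹ = q := congrArg Subtype.val h1
      calc (q : Subgroup.centralizer ({z} : Set G)) * b = b * q * b⁻¹ * b := by rw [h2]
        _ = b * q := by group
    · exfalso
      have h2 : b * (q : Subgroup.centralizer ({z} : Set G)) * b⁻¹ = q * zC z := congrArg Subtype.val h1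
      have hn : ∀ n : ℕ, b ^ n * q * (b ^ n)⁻¹ = q * zC z ^ n := by
        intro n
        induction n with
        | zero => simp
        | succ n ih =>
          rw [pow_succ', mul_inv_rev, show b * b ^ n * q * ((b ^ n)⁻¹ * b⁻¹) =
            b * (b ^ n * q * (b ^ n)⁻¹) * b⁻¹ by group, ih,
            show b * ((q : Subgroup.centralizer ({z} : Set G)) * zC z ^ n) * b⁻¹ =
              b * q * b⁻¹ * (b * zC z ^ n * b⁻¹) by group, h2,
            ((show Commute b (zC z) from zC_comm b).pow_right n).eq, mul_inv_cancel_right, mul_assoc,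
            ← pow_succ']
      have h7 := hn 7
      rw [S.pow] at h7
      simp only [one_mul, inv_one, mul_one] at h7
      have hz7 : zC z ^ 7 = 1 := mul_eq_left.1 h7.symm
      have hz2 : zC z ^ 2 = 1 := by rw [pow_two]; exact congrArg Subtype.val S.M.zQ_sq
      rw [show (7 : ℕ) = 2 * 3 + 1 from rfl, pow_succ, pow_mul, hz2, one_pow, one_mul] at hz7
      exact S.M.zQ_ne_one (Subtype.ext hz7)

theorem zQ_mem : S.M.zQ ∈ centR Q b := by
  rw [mem_centR]
  exact (zC_comm b).symm

theorem psi_Wl_injective : Function.Injective fun m : Fin 64 => ψ (Wl m) :=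
  fun _ _ h => Phi_injective ((S.psi_eq_iff _ _).1 h)

theorem card_pre (A : Set (Fin 64)) :
    {q : Q | ∃ m ∈ A, ψ (Wl m) = QuotientGroup.mk q}.ncard = 2 * A.ncard := by
  rw [← Set.ncard_image_of_injective A S.psi_Wl_injective, ← Nat.card_coe_set_eq, ← Nat.card_coe_set_eq,
    show 2 = Nat.card (Subgroup.center Q) from S.M.hS.2.2.1.2.symm, ← Nat.card_prod]
  refine (Nat.card_congr (Equiv.setCongr ?_)).trans (Nat.card_congr
    (QuotientGroup.preimageMkEquivSubgroupProdSet (Subgroup.center Q) ((fun m : Fin 64 => ψ (Wl m)) '' A)))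
  ext q
  exact ⟨fun ⟨m, hm, h⟩ => ⟨m, hm, h⟩, fun ⟨m, hm, h⟩ => ⟨m, hm, h⟩⟩

theorem card_centR : Nat.card (centR Q b) = 2 ^ 7 := by
  have h := S.card_pre Set.univ
  rw [Set.ncard_univ, Nat.card_fin] at h
  rw [← SetLike.coe_sort_coe, Nat.card_coe_set_eq]
  refine Eq.trans ?_ (h.trans (by norm_num))
  congr 1
  ext q
  rw [SetLike.mem_coe, S.mem_centR_iff]
  simp

theorem cls_Wl_iff {q : Q} {m : Fin 64} (hm : ψ (Wl m) = QuotientGroup.mk q) :
    Cls ψ 64 q ↔ (m : ℕ) ∈ shellTab := by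
  have hn : Cls ψ ((normTab.getD m 0 : ℕ) : ℤ) q := ⟨Wl m, sqNorm_Wl m, hm⟩
  rw [← (norm_facts m).2.2]
  constructor
  · intro h
    exact_mod_cast S.M.cls_unique (by exact_mod_cast (norm_facts m).2.1) le_rfl hn h
  · intro h
    rw [h] at hn
    exact hn

theorem ncard_cls : {q : Q | q ∈ centR Q b ∧ Cls ψ 64 q}.ncard = 28 := by
  have hA : ({m : Fin 64 | (m : ℕ) ∈ shellTab}).ncard = 14 := by
    rw [Set.ncard_eq_toFinset_card']
    decide +kernel
  have h := S.card_pre {m : Fin 64 | (m : ℕ) ∈ shellTab}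
  rw [hA] at h
  rw [show (28 : ℕ) = 2 * 14 from rfl, ← h]
  congr 1
  ext q
  constructor
  · rintro ⟨hq, hc⟩
    obtain ⟨m, hm⟩ := (S.mem_centR_iff q).1 hq
    exact ⟨m, (S.cls_Wl_iff hm).1 hc, hm⟩
  · rintro ⟨m, hm, e⟩
    exact ⟨(S.mem_centR_iff q).2 ⟨m, e⟩, (S.cls_Wl_iff e).2 hm⟩

theorem exists_noncomm {q : Q} (hq : q ∈ centR Q b) (hqc : q ∉ Subgroup.center Q) :
    ∃ r ∈ centR Q b, r * q ≠ q * r := by
  obtain ⟨m, hm⟩ := (S.mem_centR_iff q).1 hq
  have hm0 : (m : ℕ) ≠ 0 := fun h => hqc (S.M.cls_zero_iff.1 ⟨Wl m, by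
    rw [sqNorm_Wl, (norm_facts m).1.2 h]; norm_num, hm⟩)
  obtain ⟨hlt, hdot⟩ := pair_facts m hm0
  obtain ⟨r, hr⟩ := QuotientGroup.mk_surjective (ψ (Wl ⟨_, hlt⟩))
  refine ⟨r, (S.mem_centR_iff r).2 ⟨_, hr.symm⟩, fun h => hdot ?_⟩
  obtain ⟨t, ht, ht2⟩ := S.exists_t
  exact (S.M.commute_iff ht ht2 hm hr.symm).1 h.symm

theorem isExtraspecial : IsExtraspecial 2 (centR Q b) := by
  set c : centR Q b := ⟨S.M.zQ, S.zQ_mem⟩
  have hpow : ∀ x : centR Q b, (x = 1 ∨ x = c) → x ∈ Subgroup.zpowers c := by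
    rintro x (rfl | rfl)
    · exact one_mem _
    · exact Subgroup.mem_zpowers _
  refine LargeExtraspecial.isExtraspecial_of (c := c) (IsPGroup.of_card (n := 7) S.card_centR)
    (fun h => S.M.zQ_ne_one (congrArg Subtype.val h)) (Subtype.ext S.M.zQ_sq)
    (fun x => Subtype.ext (S.M.zQ_central (x : Q)).symm) (fun x hx => ?_) (fun x y => ?_) (fun x => ?_) ?_
  · by_cases hxc : (x : Q) ∈ Subgroup.center Q
    · rcases S.M.mem_center_iff.1 hxc with h | h
      · exact hpow x (Or.inl (Subtype.ext h))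
      · exact hpow x (Or.inr (Subtype.ext h))
    · obtain ⟨r, hr, hne⟩ := S.exists_noncomm x.2 hxc
      exact absurd (congrArg Subtype.val (hx ⟨r, hr⟩).eq).symm hne
  · refine hpow _ ?_
    rcases S.M.qdata.comm (x : Q) (y : Q) with h | h
    · exact Or.inl (commutatorElement_eq_one_iff_mul_comm.2 (Subtype.ext h))
    · right
      apply Subtype.ext
      show ((x : Q) * y * (x : Q)⁻¹ * (y : Q)⁻¹ : Q) = S.M.zQ
      rw [h, S.M.zQ_central ((y : Q) * x), mul_assoc (S.M.zQ), mul_assoc (S.M.zQ)]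
      simp
  · refine hpow _ ?_
    rcases S.M.qdata.squares (x : Q) with h | h
    · exact Or.inl (Subtype.ext h)
    · exact Or.inr (Subtype.ext h)
  · obtain ⟨q, hq⟩ := QuotientGroup.mk_surjective (ψ (Wl 1))
    have hmem := (S.mem_centR_iff q).2 ⟨1, hq.symm⟩
    have hqc : q ∉ Subgroup.center Q := S.M.not_mem_center (by norm_num) (by norm_num)
      ((S.cls_Wl_iff hq.symm).2 (show (1 : ℕ) ∈ shellTab by decide))
    obtain ⟨r, hr, hne⟩ := S.exists_noncomm hmem hqc
    exact ⟨⟨r, hr⟩, ⟨q, hmem⟩, fun h => hne (congrArg Subtype.val (commutatorElement_eq_one_iff_mul_comm.1 h))⟩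

/-- Every element of the centralizer in Co1 lifts to the centralizer of the element. -/
theorem exists_lift {x : Spor.Co1} (hx : x * beta = beta * x) :
    ∃ c : Subgroup.centralizer ({z} : Set G), proj e c = x ∧ c * b = b * c := by
  haveI := finiteCo1
  obtain ⟨c, rfl⟩ := Monster39.proj_surjective e x
  set P := (Subgroup.zpowers beta).comap (proj e) with hP
  have hb : b ∈ P := by
    show proj e b ∈ Subgroup.zpowers beta
    rw [S.proj_eq]; exact Subgroup.mem_zpowers _
  have hcb : c * b * c⁻¹ ∈ P := by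
    show proj e (c * b * c⁻¹) ∈ Subgroup.zpowers beta
    rw [map_mul, map_mul, map_inv, S.proj_eq, hx, mul_inv_cancel_right]
    exact Subgroup.mem_zpowers _
  have hcard : Nat.card P = 2 ^ 25 * 7 := by
    have h := Monster39.card_map_mul_inf_ker (proj e) P
    rw [hP, Subgroup.map_comap_eq_self_of_surjective (Monster39.proj_surjective e), Nat.card_zpowers,
      orderOf_beta, inf_eq_right.2 (MonoidHom.ker_le_comap _ _), Monster39.ker_proj, S.M.card_Q] at h
    rw [← h]; ring
  obtain ⟨g, hg, k, hk⟩ := exists_conj_seven P hb hcb S.orderOf_b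
    ((orderOf_injective (MulAut.conj c).toMonoidHom (MulAut.conj c).injective b).trans S.orderOf_b)
    (by rw [hcard]; norm_num)
  obtain ⟨i, hi⟩ := Subgroup.mem_zpowers_iff.1 (show proj e g ∈ Subgroup.zpowers beta from hg)
  have hk1 : beta ^ k = beta := by
    have h := congrArg (proj e) hk
    rw [map_pow, map_mul, map_mul, map_inv, map_mul, map_mul, map_inv, S.proj_eq, hx,
      mul_inv_cancel_right, ← hi, (Commute.refl beta).zpow_left i |>.eq, mul_inv_cancel_right] at h
    exact h.symm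
  have hbk : b ^ k = b := by
    conv_rhs => rw [← pow_one b]
    rw [pow_eq_pow_iff_modEq, S.orderOf_b, ← orderOf_beta, ← pow_eq_pow_iff_modEq, pow_one]
    exact hk1
  rw [conj_pow, hbk] at hk
  refine ⟨b ^ i * g⁻¹ * c, ?_, ?_⟩
  · rw [map_mul, map_mul, map_inv, map_zpow, S.proj_eq, hi, mul_inv_cancel, one_mul]
  · have h1 : (g⁻¹ * c) * b = b * (g⁻¹ * c) := by
      calc g⁻¹ * c * b = g⁻¹ * (c * b * c⁻¹) * c := by group
        _ = g⁻¹ * (g * b * g⁻¹) * c := by rw [hk]
        _ = b * (g⁻¹ * c) := by group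
    rw [mul_assoc (b ^ i) g⁻¹ c, mul_assoc (b ^ i) (g⁻¹ * c) b, h1, ← mul_assoc (b ^ i) b,
      ((Commute.refl b).zpow_left i).eq, mul_assoc]

/-- The central involution is conjugate, inside the centralizer of the element, to every element of class 64
of the centralizer in `Q`. -/
theorem fusion {x : Q} (hx : x ∈ centR Q b) (h64 : Cls ψ 64 x) :
    ∃ g : G, g * (b : G) = (b : G) * g ∧ g * z * g⁻¹ = ((x : Subgroup.centralizer ({z} : Set G)) : G) := by
  haveI := finiteCo1
  set xG : G := ((x : Subgroup.centralizer ({z} : Set G)) : G) with hxG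
  have hne : x ≠ S.M.zQ := fun h =>
    S.M.not_mem_center (by norm_num) (by norm_num) h64 (S.M.mem_center_iff.2 (Or.inr h))
  obtain ⟨a, ha⟩ := isConj_iff.1 ((S.M.isConj_iff_cls x).2 h64).1
  obtain ⟨y, hy, hyc⟩ := S.M.exists_back ha hne
  have hy64 : Cls ψ 64 y := (S.M.isConj_iff_cls y).1
    ⟨isConj_iff.2 ⟨a⁻¹, by rw [inv_inv]; exact hy.symm⟩,
      (S.M.ne_zQ_iff y).1 fun h => hyc (S.M.mem_center_iff.2 (Or.inr h))⟩
  obtain ⟨h, hh⟩ := S.M.transitive (by norm_num) h64 hy64
  have hh' : (h : G) * xG * (h : G)⁻¹ = a⁻¹ * z * a :=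
    (congrArg (fun u : Q => ((u : Subgroup.centralizer ({z} : Set G)) : G)) hh).trans hy
  have hhz : (h : G) * z * (h : G)⁻¹ = z := by
    rw [Subgroup.mem_centralizer_singleton_iff.1 h.2, mul_inv_cancel_right]
  set w := a * (h : G) with hw
  have hwz : w * z * w⁻¹ = xG := by
    calc w * z * w⁻¹ = a * ((h : G) * z * (h : G)⁻¹) * a⁻¹ := by rw [hw]; group
      _ = _ := by rw [hhz]; exact ha
  have hwx : w * xG * w⁻¹ = z := by
    calc w * xG * w⁻¹ = a * ((h : G) * xG * (h : G)⁻¹) * a⁻¹ := by rw [hw]; group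
      _ = _ := by rw [hh']; group
  have hbz : (b : G) * z = z * b := Subgroup.mem_centralizer_singleton_iff.1 b.2
  have hbx : (b : G) * xG = xG * b := (congrArg Subtype.val (mem_centR.1 hx)).symm
  have hwb : w * (b : G) * w⁻¹ * z = z * (w * (b : G) * w⁻¹) := by
    calc w * (b : G) * w⁻¹ * z = w * (b : G) * w⁻¹ * (w * xG * w⁻¹) := by rw [hwx]
      _ = w * ((b : G) * xG) * w⁻¹ := by group
      _ = w * (xG * (b : G)) * w⁻¹ := by rw [hbx]
      _ = w * xG * w⁻¹ * (w * (b : G) * w⁻¹) := by group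
      _ = _ := by rw [hwx]
  let b' : Subgroup.centralizer ({z} : Set G) := ⟨w * b * w⁻¹, Subgroup.mem_centralizer_singleton_iff.2 hwb⟩
  have hb'x : b' ∈ Monster39.Setting.centC x := Subgroup.mem_centralizer_singleton_iff.2 (Subtype.ext (by
    show w * (b : G) * w⁻¹ * xG = xG * (w * (b : G) * w⁻¹)
    calc w * (b : G) * w⁻¹ * xG = w * (b : G) * w⁻¹ * (w * z * w⁻¹) := by rw [hwz]
      _ = w * ((b : G) * z) * w⁻¹ := by group
      _ = w * (z * (b : G)) * w⁻¹ := by rw [hbz]
      _ = w * z * w⁻¹ * (w * (b : G) * w⁻¹) := by group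
      _ = _ := by rw [hwz]))
  have h49 : ¬ 49 ∣ Nat.card (Monster39.Setting.centC x) := by
    rw [← S.M.card_proj_cent (S.M.not_mem_center (by norm_num) (by norm_num) h64),
      S.M.card_stabilizer h64]
    norm_num
  have hbord : orderOf (b : G) = 7 := by rw [Subgroup.orderOf_coe, S.orderOf_b]
  have hb'o : orderOf b' = 7 := by
    rw [← Subgroup.orderOf_coe, ← hbord]
    exact orderOf_injective (MulAut.conj w).toMonoidHom (MulAut.conj w).injective (b : G)
  obtain ⟨l, hl, k, hk⟩ := exists_conj_seven _ hb'x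
    (Subgroup.mem_centralizer_singleton_iff.2 (mem_centR.1 hx).symm) hb'o S.orderOf_b h49
  have hk' : (l : G) * w * (b : G) * ((l : G) * w)⁻¹ = (b : G) ^ k := by
    have h1 : (l : G) * (w * (b : G) * w⁻¹) * (l : G)⁻¹ = (b : G) ^ k := by
      have := congrArg Subtype.val hk
      simpa using this
    rw [← h1]; group
  set u := (l : G) * w with hu
  have hlz : (l : G) * z * (l : G)⁻¹ = z := by
    rw [Subgroup.mem_centralizer_singleton_iff.1 l.2, mul_inv_cancel_right]
  have hlx : (l : G) * xG * (l : G)⁻¹ = xG := by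
    have := congrArg Subtype.val (Subgroup.mem_centralizer_singleton_iff.1 hl)
    change (l : G) * xG = xG * l at this
    rw [this, mul_inv_cancel_right]
  have huz : u * z * u⁻¹ = xG := by
    calc u * z * u⁻¹ = (l : G) * (w * z * w⁻¹) * (l : G)⁻¹ := by rw [hu]; group
      _ = _ := by rw [hwz, hlx]
  have hux : u * xG * u⁻¹ = z := by
    calc u * xG * u⁻¹ = (l : G) * (w * xG * w⁻¹) * (l : G)⁻¹ := by rw [hu]; group
      _ = _ := by rw [hwx, hlz]
  obtain ⟨q, hq, hqne⟩ := S.exists_noncomm hx (S.M.not_mem_center (by norm_num) (by norm_num) h64)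
  have hqx' : cj (q : Subgroup.centralizer ({z} : Set G)) x = x * S.M.zQ := by
    apply Subtype.ext
    show ((q * x * q⁻¹ : Q) : Subgroup.centralizer ({z} : Set G)) = _
    rw [S.M.qdata.commute_or hqne, mul_assoc x q, S.M.zQ_central q, ← mul_assoc, mul_inv_cancel_right]
  set qG : G := ((q : Subgroup.centralizer ({z} : Set G)) : G) with hqG
  have hqx : qG * xG * qG⁻¹ = xG * z :=
    congrArg (fun v : Q => ((v : Subgroup.centralizer ({z} : Set G)) : G)) hqx'
  have hqz : qG * z * qG⁻¹ = z := by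
    rw [Subgroup.mem_centralizer_singleton_iff.1 (q : Subgroup.centralizer ({z} : Set G)).2,
      mul_inv_cancel_right]
  have hqb : Commute qG (b : G) := congrArg Subtype.val (mem_centR.1 hq)
  have hd : Commute (u * qG * u⁻¹) (b : G) := by
    have h1 : Commute (u * qG * u⁻¹) ((b : G) ^ k) := by
      rw [← hk']
      exact (Commute.conj_iff u).2 hqb
    have hcop : k.Coprime (orderOf (b : G)) := by
      rw [hbord, Nat.coprime_comm, (by norm_num : Nat.Prime 7).coprime_iff_not_dvd]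
      intro h7
      have : (b : G) ^ k = 1 := orderOf_dvd_iff_pow_eq_one.1 (hbord ▸ h7)
      rw [this] at hk'
      have hb1 : (b : G) = 1 := by
        calc (b : G) = u⁻¹ * (u * (b : G) * u⁻¹) * u := by group
          _ = 1 := by rw [hk']; group
      rw [hb1, orderOf_one] at hbord
      omega
    obtain ⟨j, hj⟩ := exists_pow_eq_self_of_coprime hcop
    have := h1.pow_right j
    rwa [hj] at this
  refine ⟨qG * (u * qG * u⁻¹), (hqb.mul_left hd).eq, ?_⟩
  have hdz : u * qG * u⁻¹ * z * (u * qG * u⁻¹)⁻¹ = z * xG := by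
    calc u * qG * u⁻¹ * z * (u * qG * u⁻¹)⁻¹ = u * (qG * (u⁻¹ * z * u) * qG⁻¹) * u⁻¹ := by group
      _ = u * (qG * xG * qG⁻¹) * u⁻¹ := by
        rw [show u⁻¹ * z * u = xG by rw [← hux]; group]
      _ = u * xG * u⁻¹ * (u * z * u⁻¹) := by rw [hqx]; group
      _ = _ := by rw [hux, huz]
  calc qG * (u * qG * u⁻¹) * z * (qG * (u * qG * u⁻¹))⁻¹
      = qG * (u * qG * u⁻¹ * z * (u * qG * u⁻¹)⁻¹) * qG⁻¹ := by group
    _ = qG * z * qG⁻¹ * (qG * xG * qG⁻¹) := by rw [hdz]; group
    _ = z * (xG * z) := by rw [hqz, hqx]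
    _ = xG * (z * z) := by
      rw [← mul_assoc, ← (show xG * z = z * xG from
        Subgroup.mem_centralizer_singleton_iff.1 (x : Subgroup.centralizer ({z} : Set G)).2), mul_assoc]
    _ = _ := by rw [S.M.zz_eq, mul_one]

end Lift

end Cfsg.Agent.MonHe94
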