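import Cfsg.Agent.MonHe94.Fusion
import Cfsg.Agent.Lib.LinearGroup.PSLTools
import Cfsg.Agent.Lib.LinearGroup.Simple
import Cfsg.Agent.Lib.LargeExtraspecial.Pullback

/-!
The centralizer of the element of order 7 modulo its group is of Held type.
-/

set_option autoImplicit false
set_option maxRecDepth 100000
set_option linter.style.haveILetI false
set_option linter.unusedSectionVars false

namespace Cfsg.Agent.MonHe94

open Cfsg Cfsg.Agent.Leech
open Cfsg.Agent.Monster39 (Setting Cls cj proj proj_eq_one zC zC_comm finiteCo1)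
open scoped Pointwise

theorem sl32_simple : IsSimpleGroup (Matrix.SpecialLinearGroup (Fin 3) (ZMod 2)) ∧
    ¬ Group.IsSolvable (Matrix.SpecialLinearGroup (Fin 3) (ZMod 2)) := by
  haveI hs : IsSimpleGroup (Matrix.SpecialLinearGroup (Fin 3) (ZMod 2)) := by
    have := Cfsg.Agent.LinearGroup.isSimpleGroup_PSL_of_three_le (ι := Fin 3) (F := ZMod 2) (by simp)
    exact (Cfsg.Agent.LinearGroup.slEquivPSL (by rw [Nat.card_zmod]; rfl)).isSimpleGroup
  refine ⟨hs, fun h => ?_⟩
  have hc := IsSimpleGroup.comm_iff_isSolvable.2 h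
    ⟨!![1, 1, 0; 0, 1, 0; 0, 0, 1], by decide⟩ ⟨!![1, 0, 0; 1, 1, 0; 0, 0, 1], by decide⟩
  exact absurd (congrArg (fun M : Matrix.SpecialLinearGroup (Fin 3) (ZMod 2) =>
    (M : Matrix (Fin 3) (Fin 3) (ZMod 2)) 0 0) hc) (by decide)

variable {G : Type*} [Group G] [Finite G] {z : G}
  {Q : Subgroup (Subgroup.centralizer ({z} : Set G))} [Q.Normal]
  {e : (Subgroup.centralizer ({z} : Set G)) ⧸ Q ≃* Spor.Co1}
  {ψ : leechLattice → Q ⧸ Subgroup.center Q}
  {b : Subgroup.centralizer ({z} : Set G)}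

set_option maxHeartbeats 1000000 in
/-- The centralizer of the group of `b` modulo that group is of Held type. -/
theorem Lift.held (S : Lift e ψ b) {B : Subgroup G} (hBb : B = Subgroup.zpowers (b : G))
    [hn : (B.subgroupOf (Subgroup.centralizer (B : Set G))).Normal] :
    IsOfHeldType (↥(Subgroup.centralizer (B : Set G)) ⧸ B.subgroupOf (Subgroup.centralizer (B : Set G))) := by
  classical
  set H := Subgroup.centralizer (B : Set G) with hH
  set N := B.subgroupOf H with hN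
  have hHmem : ∀ g : G, g ∈ H ↔ g * (b : G) = (b : G) * g := fun g => by
    rw [hH, hBb, Subgroup.zpowers_eq_closure, Subgroup.centralizer_closure, Subgroup.mem_centralizer_singleton_iff]
  have hbord : orderOf (b : G) = 7 := by rw [Subgroup.orderOf_coe, S.orderOf_b]
  have hBmem : ∀ {g : G}, g ∈ B → g ^ 7 = 1 := by
    intro g hg
    rw [hBb] at hg
    obtain ⟨i, rfl⟩ := Subgroup.mem_zpowers_iff.1 hg
    rw [← zpow_natCast, ← zpow_mul, mul_comm, zpow_mul, zpow_natCast, ← hbord, pow_orderOf_eq_one, one_zpow]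
  have hzz : z ^ 2 = 1 := by rw [pow_two]; exact S.M.zz_eq
  have h27 : ∀ {g : G}, g ^ 2 = 1 → g ^ 7 = 1 → g = 1 := by
    intro g h2 h7
    rw [show (7 : ℕ) = 2 * 3 + 1 from rfl, pow_succ, pow_mul, h2, one_pow, one_mul] at h7
    exact h7
  have hmk : ∀ x y : H, (QuotientGroup.mk x : H ⧸ N) = QuotientGroup.mk y ↔ (x : G)⁻¹ * y ∈ B := by
    intro x y
    rw [QuotientGroup.eq, hN, Subgroup.mem_subgroupOf]
    rfl
  let Kb : Subgroup (Subgroup.centralizer ({z} : Set G)) :=
    Subgroup.centralizer ({b} : Set (Subgroup.centralizer ({z} : Set G)))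
  have hKb : ∀ c : Kb, (c : Subgroup.centralizer ({z} : Set G)) * b = b * c := fun c =>
    Subgroup.mem_centralizer_singleton_iff.1 c.2
  let ι : Kb →* H := MonoidHom.mk'
    (fun c => ⟨((c : Subgroup.centralizer ({z} : Set G)) : G), (hHmem _).2 (congrArg Subtype.val (hKb c))⟩)
    fun _ _ => rfl
  have hzH : z ∈ H := (hHmem z).2 (Subgroup.mem_centralizer_singleton_iff.1 b.2).symm
  let z' : H ⧸ N := QuotientGroup.mk ⟨z, hzH⟩
  have hφmem : ∀ c : Kb, (QuotientGroup.mk (ι c) : H ⧸ N) ∈ Subgroup.centralizer ({z'} : Set (H ⧸ N)) := by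
    intro c
    rw [Subgroup.mem_centralizer_singleton_iff, ← QuotientGroup.mk_mul, ← QuotientGroup.mk_mul]
    congr 1
    exact Subtype.ext (Subgroup.mem_centralizer_singleton_iff.1 (c : Subgroup.centralizer ({z} : Set G)).2)
  let φ : Kb →* Subgroup.centralizer ({z'} : Set (H ⧸ N)) :=
    ((QuotientGroup.mk' N).comp ι).codRestrict _ hφmem
  have hφone : ∀ c : Kb, φ c = 1 ↔ ((c : Subgroup.centralizer ({z} : Set G)) : G) ∈ B := by
    intro c
    rw [Subtype.ext_iff]
    show (QuotientGroup.mk (ι c) : H ⧸ N) = 1 ↔ _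
    rw [QuotientGroup.eq_one_iff, hN, Subgroup.mem_subgroupOf]
    rfl
  have hφsurj : Function.Surjective φ := by
    rintro ⟨d, hd⟩
    obtain ⟨h, rfl⟩ := QuotientGroup.mk_surjective d
    rw [Subgroup.mem_centralizer_singleton_iff, ← QuotientGroup.mk_mul, ← QuotientGroup.mk_mul, hmk] at hd
    simp only [Subgroup.coe_mul] at hd
    set u := ((h : G) * z)⁻¹ * (z * h) with hu
    have hzu : (z * u) ^ 2 = 1 := by
      have e1 : z * u = z * z⁻¹ * ((h : G)⁻¹ * z * h) := by rw [hu]; group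
      rw [e1, mul_inv_cancel, one_mul, pow_two]
      calc (h : G)⁻¹ * z * h * ((h : G)⁻¹ * z * h) = (h : G)⁻¹ * (z * z) * h := by group
        _ = 1 := by rw [S.M.zz_eq]; group
    have hzc : Commute z u := by
      rw [hBb] at hd
      obtain ⟨i, hi⟩ := Subgroup.mem_zpowers_iff.1 hd
      rw [← hi]
      exact (show Commute z (b : G) from (Subgroup.mem_centralizer_singleton_iff.1 b.2).symm).zpow_right i
    rw [hzc.mul_pow, hzz, one_mul] at hzu
    have hu1 : u = 1 := h27 hzu (hBmem hd)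
    have hcz : (h : G) * z = z * h := by
      rw [hu] at hu1
      exact inv_mul_eq_one.1 hu1
    exact ⟨⟨⟨h, Subgroup.mem_centralizer_singleton_iff.2 hcz⟩, Subgroup.mem_centralizer_singleton_iff.2
      (Subtype.ext ((hHmem _).1 h.2))⟩, rfl⟩
  obtain ⟨f, hfsurj, hfker, hffix⟩ := exists_hom
  let θ : Kb →* cent1 := ((proj e).comp Kb.subtype).codRestrict cent1 fun c =>
    Subgroup.mem_centralizer_singleton_iff.2 (by
      show proj e (c : Subgroup.centralizer ({z} : Set G)) * beta = beta * proj e (c : Subgroup.centralizer ({z} : Set G))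
      rw [← S.proj_eq, ← map_mul, ← map_mul, hKb])
  let Θ : Kb →* Matrix.SpecialLinearGroup (Fin 3) (ZMod 2) := f.comp θ
  have hΘsurj : Function.Surjective Θ := by
    intro y
    obtain ⟨x, rfl⟩ := hfsurj y
    obtain ⟨c, hc, hcb⟩ := S.exists_lift (Subgroup.mem_centralizer_singleton_iff.1 x.2)
    refine ⟨⟨c, Subgroup.mem_centralizer_singleton_iff.2 hcb⟩, ?_⟩
    show f _ = f x
    congr 1
    exact Subtype.ext hc
  have hker : φ.ker ≤ Θ.ker := by
    intro c hc
    rw [MonoidHom.mem_ker, hφone, hBb] at hc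
    obtain ⟨i, hi⟩ := Subgroup.mem_zpowers_iff.1 hc
    rw [MonoidHom.mem_ker]
    show f (θ c) = 1
    rw [hfker]
    refine Subgroup.mem_zpowers_iff.2 ⟨i, ?_⟩
    show beta ^ i = proj e (c : Subgroup.centralizer ({z} : Set G))
    rw [← S.proj_eq, ← map_zpow]
    congr 1
    exact Subtype.ext (by rw [SubgroupClass.coe_zpow]; exact hi)
  let Θ' : Subgroup.centralizer ({z'} : Set (H ⧸ N)) →* Matrix.SpecialLinearGroup (Fin 3) (ZMod 2) :=
    (QuotientGroup.lift φ.ker Θ hker).comp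
      (QuotientGroup.quotientKerEquivOfSurjective φ hφsurj).symm.toMonoidHom
  have hΘ' : ∀ c, Θ' (φ c) = Θ c := by
    intro c
    have : (QuotientGroup.quotientKerEquivOfSurjective φ hφsurj).symm (φ c) = QuotientGroup.mk c :=
      (MulEquiv.symm_apply_eq _).2 rfl
    show QuotientGroup.lift φ.ker Θ hker ((QuotientGroup.quotientKerEquivOfSurjective φ hφsurj).symm (φ c)) = _
    rw [this]
    rfl
  let incl : centR Q b →* Kb := MonoidHom.mk'
    (fun q => ⟨((q : Q) : Subgroup.centralizer ({z} : Set G)),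
      Subgroup.mem_centralizer_singleton_iff.2 (mem_centR.1 q.2)⟩) fun _ _ => rfl
  let χ : centR Q b →* Subgroup.centralizer ({z'} : Set (H ⧸ N)) := φ.comp incl
  have hQB : ∀ q : Q, ((q : Subgroup.centralizer ({z} : Set G)) : G) ∈ B → q = 1 := by
    intro q hq
    have h7 : q ^ 7 = 1 := Subtype.ext (Subtype.ext (by
      rw [SubmonoidClass.coe_pow, SubmonoidClass.coe_pow]; exact hBmem hq))
    have h9 := orderOf_dvd_of_pow_eq_one h7
    have h10 : orderOf q ∣ 2 ^ 25 := S.M.card_Q ▸ orderOf_dvd_natCard q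
    exact orderOf_eq_one_iff.1 (Nat.eq_one_of_dvd_coprimes (by norm_num : Nat.Coprime 7 (2 ^ 25)) h9 h10)
  have hχinj : Function.Injective χ := by
    rw [injective_iff_map_eq_one]
    intro q hq
    exact Subtype.ext (hQB q ((hφone _).1 hq))
  set R := χ.range with hR
  have hRker : R = Θ'.ker := by
    ext d
    obtain ⟨c, rfl⟩ := hφsurj d
    rw [MonoidHom.mem_ker, hΘ']
    constructor
    · rintro ⟨q, hq⟩
      rw [← hΘ', ← hq]
      show Θ' (φ (incl q)) = 1
      rw [hΘ']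
      show f (θ (incl q)) = 1
      rw [hfker]
      show proj e ((q : Q) : Subgroup.centralizer ({z} : Set G)) ∈ _
      rw [proj_eq_one.2 (q : Q).2]
      exact one_mem _
    · intro hc
      change f (θ c) = 1 at hc
      rw [hfker] at hc
      obtain ⟨i, hi⟩ := Subgroup.mem_zpowers_iff.1 hc
      change beta ^ i = proj e (c : Subgroup.centralizer ({z} : Set G)) at hi
      have hq : (c : Subgroup.centralizer ({z} : Set G)) * (b ^ i)⁻¹ ∈ Q :=
        proj_eq_one.1 (by rw [map_mul, map_inv, map_zpow, S.proj_eq, hi, mul_inv_cancel])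
      have hq' : (⟨_, hq⟩ : Q) ∈ centR Q b := by
        rw [mem_centR]
        exact ((show Commute (c : Subgroup.centralizer ({z} : Set G)) b from hKb c).mul_left
          ((Commute.refl b).zpow_left i).inv_left).eq
      refine ⟨⟨_, hq'⟩, ?_⟩
      rw [← inv_mul_eq_one]
      show (φ (incl ⟨_, hq'⟩))⁻¹ * φ c = 1
      rw [← map_inv, ← map_mul, hφone, hBb]
      refine Subgroup.mem_zpowers_iff.2 ⟨i, ?_⟩
      show (b : G) ^ i = ((((c : Subgroup.centralizer ({z} : Set G)) * (b ^ i)⁻¹)⁻¹ * c : Subgroup.centralizer ({z} : Set G)) : G)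
      rw [← SubgroupClass.coe_zpow]
      congr 1
      group
  haveI hRn : R.Normal := hRker ▸ inferInstance
  have hΘ'surj : Function.Surjective Θ' := fun y => by
    obtain ⟨c, rfl⟩ := hΘsurj y
    exact ⟨φ c, hΘ' c⟩
  let e' : Subgroup.centralizer ({z'} : Set (H ⧸ N)) ⧸ R ≃* Matrix.SpecialLinearGroup (Fin 3) (ZMod 2) :=
    (QuotientGroup.quotientMulEquivOfEq hRker).trans (QuotientGroup.quotientKerEquivOfSurjective Θ' hΘ'surj)
  let eR : centR Q b ≃* R := MonoidHom.ofInjective hχinj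
  have hex : IsExtraspecial 2 R := LargeExtraspecial.isExtraspecial_equiv eR S.isExtraspecial
  have hcardR : Nat.card R = 2 ^ 7 := (Nat.card_congr eR.toEquiv).symm.trans S.card_centR
  have hC : Subgroup.centralizer (R : Set (Subgroup.centralizer ({z'} : Set (H ⧸ N)))) ≤ R := by
    intro d hd
    obtain ⟨c, rfl⟩ := hφsurj d
    rw [hRker, MonoidHom.mem_ker, hΘ']
    obtain ⟨g, hg⟩ := QuotientGroup.mk_surjective (proj e (c : Subgroup.centralizer ({z} : Set G)))
    refine hffix g (θ c) hg fun v => ?_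
    obtain ⟨q, hq⟩ := QuotientGroup.mk_surjective (ψ (Wl (vcode v)))
    have hqR : q ∈ centR Q b := (S.mem_centR_iff q).2 ⟨_, hq.symm⟩
    have hcom : φ c * χ ⟨q, hqR⟩ = χ ⟨q, hqR⟩ * φ c :=
      (Subgroup.mem_centralizer_iff.1 hd _ ⟨⟨q, hqR⟩, rfl⟩).symm
    have hfix : cj (c : Subgroup.centralizer ({z} : Set G)) q = q := by
      have h1 : φ (c * incl ⟨q, hqR⟩ * c⁻¹ * (incl ⟨q, hqR⟩)⁻¹) = 1 := by
        rw [map_mul, map_mul, map_mul, map_inv, map_inv, show φ (incl ⟨q, hqR⟩) = χ ⟨q, hqR⟩ from rfl,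
          hcom, mul_inv_cancel_right, mul_inv_cancel]
      rw [hφone] at h1
      have h2 := hQB (cj (c : Subgroup.centralizer ({z} : Set G)) q * q⁻¹) h1
      exact mul_inv_eq_one.1 h2
    show g • Phi (vcode v) = Phi (vcode v)
    show cl (g • Wl (vcode v)) = cl (Wl (vcode v))
    rw [← S.psi_eq_iff, S.psi_smul hg.symm hq.symm, hfix, hq]
  have hF : generalizedFittingSubgroup (Subgroup.centralizer ({z'} : Set (H ⧸ N))) = R := by
    haveI := sl32_simple.1
    haveI : Nontrivial (Subgroup.centralizer ({z'} : Set (H ⧸ N)) ⧸ R) := e'.toEquiv.nontrivial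
    refine Monster39.generalizedFitting_eq_of_quot (IsPGroup.of_card (n := 7) hcardR).isNilpotent
      (IsSimpleGroup.isSimpleGroup_of_surjective e'.symm.toMonoidHom e'.symm.surjective) (fun h => ?_) hC
    haveI := h
    exact sl32_simple.2 (Group.isSolvable_of_surjective (f := e'.toMonoidHom) e'.surjective)
  have hz' : orderOf z' = 2 := by
    refine orderOf_eq_prime ?_ fun h => ?_
    · rw [pow_two, ← QuotientGroup.mk_mul, show (⟨z, hzH⟩ : H) * ⟨z, hzH⟩ = 1 from Subtype.ext S.M.zz_eq,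
        QuotientGroup.mk_one]
    · rw [← QuotientGroup.mk_one, hmk] at h
      simp only [OneMemClass.coe_one, mul_one] at h
      have h1 := h27 (g := z⁻¹) (by rw [inv_pow, hzz, inv_one]) (hBmem h)
      exact S.M.zQ_ne_one (Subtype.ext (Subtype.ext (inv_eq_one.1 h1)))
  have hχval : ∀ q : centR Q b, ((χ q : Subgroup.centralizer ({z'} : Set (H ⧸ N))) : H ⧸ N) =
      QuotientGroup.mk (ι (incl q)) := fun _ => rfl
  have hzeq : ((χ ⟨S.M.zQ, S.zQ_mem⟩ : Subgroup.centralizer ({z'} : Set (H ⧸ N))) : H ⧸ N) = z' := rfl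
  have hfwd : ∀ q : centR Q b, Cls ψ 64 (q : Q) →
      IsConj z' ((χ q : Subgroup.centralizer ({z'} : Set (H ⧸ N))) : H ⧸ N) := by
    intro q h64
    obtain ⟨g, hgb, hgz⟩ := S.fusion q.2 h64
    refine isConj_iff.2 ⟨QuotientGroup.mk ⟨g, (hHmem g).2 hgb⟩, ?_⟩
    rw [hχval, ← QuotientGroup.mk_inv, ← QuotientGroup.mk_mul, ← QuotientGroup.mk_mul]
    exact congrArg QuotientGroup.mk (Subtype.ext hgz)
  have hback : ∀ q : centR Q b, IsConj z' ((χ q : Subgroup.centralizer ({z'} : Set (H ⧸ N))) : H ⧸ N) →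
      Cls ψ 64 (q : Q) ∨ (q : Q) = S.M.zQ := by
    intro q hq
    obtain ⟨k, hk⟩ := isConj_iff.1 hq
    obtain ⟨h, rfl⟩ := QuotientGroup.mk_surjective k
    rw [hχval, ← QuotientGroup.mk_inv, ← QuotientGroup.mk_mul, ← QuotientGroup.mk_mul, hmk] at hk
    set qG : G := (((q : Q) : Subgroup.centralizer ({z} : Set G)) : G) with hqG
    change ((h : G) * z * (h : G)⁻¹)⁻¹ * qG ∈ B at hk
    set u := ((h : G) * z * (h : G)⁻¹)⁻¹ * qG with hu
    have hqb : Commute qG (b : G) := congrArg Subtype.val (mem_centR.1 q.2)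
    have hqu : Commute qG u := by
      rw [hBb] at hk
      obtain ⟨i, hi⟩ := Subgroup.mem_zpowers_iff.1 hk
      rw [← hi]
      exact hqb.zpow_right i
    have hinv : ((h : G) * z * (h : G)⁻¹) ^ 2 = 1 := by rw [conj_pow, hzz]; group
    have hq4 : qG ^ 4 = 1 := by
      rcases S.M.qdata.squares (q : Q) with h2 | h2 <;>
        have h2' := congrArg (fun v : Q => ((v : Subgroup.centralizer ({z} : Set G)) : G)) h2
      · change qG * qG = 1 at h2'
        rw [show (4 : ℕ) = 2 * 2 from rfl, pow_mul, pow_two qG, h2', one_pow]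
      · change qG * qG = z at h2'
        rw [show (4 : ℕ) = 2 * 2 from rfl, pow_mul, pow_two qG, h2', hzz]
    have hu1 : u = 1 := by
      have e1 : (h : G) * z * (h : G)⁻¹ = qG * u⁻¹ := by rw [hu]; group
      rw [e1, (hqu.inv_right).mul_pow] at hinv
      have e2 : u ^ 4 = 1 := by
        have e3 := congrArg (· ^ 2) (eq_inv_of_mul_eq_one_left hinv)
        simp only [← pow_mul, inv_pow, inv_inv] at e3
        rw [show 2 * 2 = 4 from rfl, hq4] at e3
        exact e3.symm
      have e7 := hBmem hk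
      calc u = u ^ (7 + 1) := by rw [pow_succ, e7, one_mul]
        _ = u ^ (4 * 2) := rfl
        _ = 1 := by rw [pow_mul, e2, one_pow]
    have hconj : IsConj z qG := isConj_iff.2 ⟨h, inv_mul_eq_one.1 hu1⟩
    by_cases hqz : qG = z
    · exact Or.inr (Subtype.ext (Subtype.ext hqz))
    · exact Or.inl ((S.M.isConj_iff_cls (q : Q)).1 ⟨hconj, hqz⟩)
  have hset : {x : Subgroup.centralizer ({z'} : Set (H ⧸ N)) | x ∈ R ∧ IsConj z' (x : H ⧸ N)} =
      χ '' {q : centR Q b | Cls ψ 64 (q : Q) ∨ (q : Q) = S.M.zQ} := by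
    ext x
    constructor
    · rintro ⟨⟨q, rfl⟩, hx⟩
      exact ⟨q, hback q hx, rfl⟩
    · rintro ⟨q, hq, rfl⟩
      refine ⟨⟨q, rfl⟩, ?_⟩
      rcases hq with hq | hq
      · exact hfwd q hq
      · rw [show q = ⟨S.M.zQ, S.zQ_mem⟩ from Subtype.ext hq, hzeq]
  have h29 : {x : Subgroup.centralizer ({z'} : Set (H ⧸ N)) | x ∈ R ∧ IsConj z' (x : H ⧸ N)}.ncard = 29 := by
    rw [hset, Set.ncard_image_of_injective _ hχinj,
      ← Set.ncard_image_of_injective _ (Subtype.val_injective : Function.Injective (Subtype.val : centR Q b → Q))]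
    have e2 : Subtype.val '' {q : centR Q b | Cls ψ 64 (q : Q) ∨ (q : Q) = S.M.zQ} =
        insert S.M.zQ {q : Q | q ∈ centR Q b ∧ Cls ψ 64 q} := by
      ext q
      constructor
      · rintro ⟨r, hr | hr, rfl⟩
        · exact Or.inr ⟨r.2, hr⟩
        · exact Or.inl hr
      · rintro (hq | ⟨hq, hc⟩)
        · exact ⟨⟨q, hq ▸ S.zQ_mem⟩, Or.inr hq, rfl⟩
        · exact ⟨⟨q, hq⟩, Or.inl hc, rfl⟩
    rw [e2, Set.ncard_insert_of_notMem (fun hz => S.M.not_mem_center (by norm_num) (by norm_num) hz.2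
      (S.M.mem_center_iff.2 (Or.inr rfl))) (Set.toFinite _), S.ncard_cls]
  obtain ⟨q, hq⟩ := QuotientGroup.mk_surjective (ψ (Wl 1))
  have hqR := (S.mem_centR_iff q).2 ⟨1, hq.symm⟩
  have hq64 : Cls ψ 64 q := (S.cls_Wl_iff hq.symm).2 (show (1 : ℕ) ∈ shellTab by decide)
  obtain ⟨k, hk⟩ := isConj_iff.1 (hfwd ⟨q, hqR⟩ hq64)
  refine ⟨z', R, hRn, ⟨hz', hF, hex, hcardR, k, ⟨?_, ?_⟩, ?_⟩, ⟨e'⟩, h29⟩
  · rw [hk]; exact SetLike.coe_mem _
  · exact ⟨⟨q, hqR⟩, Subtype.ext hk.symm⟩
  · rw [hk]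
    intro h
    have h1 : χ ⟨q, hqR⟩ = χ ⟨S.M.zQ, S.zQ_mem⟩ := Subtype.ext (h.trans hzeq.symm)
    have h2 : q = S.M.zQ := congrArg Subtype.val (hχinj h1)
    exact S.M.not_mem_center (by norm_num) (by norm_num) hq64 (S.M.mem_center_iff.2 (Or.inr h2))

end Cfsg.Agent.MonHe94
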