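import Cfsg.Agent.MonHe94.Classes

/-!
The centralizer in Co0 of the element of order 7 moves the class of the standard frame to exactly seven
classes.
-/

set_option autoImplicit false
set_option maxRecDepth 100000
set_option linter.style.haveILetI false

namespace Cfsg.Agent.MonHe94

open Cfsg Cfsg.Agent.Leech
open Cfsg.Agent.Golay (idx pt toSet Tab comp)
open Cfsg.Agent.Sporadic96 (seven7Tab sevenEl tab_sevenEl orderOf_sevenEl tab_pow_foldl sevenNTab)
open Cfsg.Agent.Monster39 (permHom mono_mul_mono card_Co0)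
open scoped Pointwise

theorem finiteCo0 : Finite Co0 := Nat.finite_of_card_ne_zero (by rw [card_Co0]; norm_num)

/-- The centralizer of the element in Co0. -/
noncomputable abbrev cent0 : Subgroup Co0 := Subgroup.centralizer ({p7} : Set Co0)

/-- The normalizer of the group of the element in Co0. -/
noncomputable abbrev norm0 : Subgroup Co0 := Subgroup.normalizer ((Subgroup.zpowers p7 : Subgroup Co0) : Set Co0)

theorem mem_cent0 {g : Co0} : g ∈ cent0 ↔ g * p7 = p7 * g := Subgroup.mem_centralizer_singleton_iff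

/-- Orbit and stabiliser for a subgroup. -/
theorem card_eq_orbit_mul {G α : Type*} [Group G] [MulAction G α] (H : Subgroup G) (x : α) :
    Nat.card H = {y : α | ∃ h ∈ H, h • x = y}.ncard * Nat.card (H ⊓ MulAction.stabilizer G x : Subgroup G) := by
  rw [Subgroup.card_eq_card_quotient_mul_card_subgroup (MulAction.stabilizer H x),
    ← Nat.card_congr (MulAction.orbitEquivQuotientStabilizer H x), Nat.card_coe_set_eq]
  congr 1
  · congr 1
    ext y
    exact ⟨fun ⟨h, e⟩ => ⟨h, h.2, e⟩, fun ⟨h, hh, e⟩ => ⟨⟨h, hh⟩, e⟩⟩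
  · exact Nat.card_congr
      { toFun := fun h => ⟨(h : H), (h : H).2, h.2⟩
        invFun := fun h => ⟨⟨h, h.2.1⟩, h.2.2⟩
        left_inv := fun _ => rfl
        right_inv := fun _ => rfl }

theorem p7_pow_seven : p7 ^ 7 = 1 := by rw [← orderOf_p7, pow_orderOf_eq_one]

theorem norm_exponent {g : Co0} (hg : g ∈ norm0) : ∃ k : ℕ, g * p7 = p7 ^ k * g := by
  classical
  haveI := finiteCo0
  have h := (Subgroup.mem_normalizer_iff.1 hg p7).1 (Subgroup.mem_zpowers p7)
  rw [(isOfFinOrder_of_finite p7).mem_zpowers_iff_mem_range_orderOf, Finset.mem_image] at h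
  obtain ⟨k, -, hk⟩ := h
  exact ⟨k, by rw [hk]; group⟩

theorem mem_norm0 {g : Co0} {k : ℕ} (hk : g * p7 = p7 ^ k * g) : g ∈ norm0 := by
  haveI := finiteCo0
  refine Subgroup.mem_normalizer_iff_map_conj_eq.2 (Subgroup.eq_of_le_of_card_ge ?_ ?_)
  · rintro _ ⟨h, hh, rfl⟩
    obtain ⟨i, rfl⟩ := Subgroup.mem_zpowers_iff.1 hh
    show g * p7 ^ i * g⁻¹ ∈ _
    rw [← conj_zpow, hk, mul_inv_cancel_right]
    exact zpow_mem (pow_mem (Subgroup.mem_zpowers p7) k) i
  · exact (Nat.card_congr (Subgroup.equivMapOfInjective _ _ (MulAut.conj g).injective).toEquiv).le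

/-- The monomial elements commuting with the element are given by 336 pairs. -/
theorem card_cent0_stab : Nat.card (cent0 ⊓ MulAction.stabilizer Co0 x0 : Subgroup Co0) = 336 := by
  haveI := finiteCo0
  let S := {σ : M24 // σ * sevenEl = sevenEl * σ}
  have hS : Nat.card S = 42 := by
    rw [← Sporadic96.seven_rep.2.1]
    refine Nat.card_congr (Equiv.subtypeEquivRight fun σ => ?_)
    rw [Subgroup.zpowers_eq_closure, Subgroup.centralizer_closure, Subgroup.mem_centralizer_singleton_iff]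
  have hfw : Function.Injective fixWord := by
    intro i j h
    have h1 := Golay.toSet_injOn (fixCode_facts i).2.1 (fixCode_facts j).2.1 h
    revert i j
    intro i j _ h1
    revert i j
    decide +kernel
  let f : S × Fin 8 → (cent0 ⊓ MulAction.stabilizer Co0 x0 : Subgroup Co0) := fun p =>
    ⟨mono p.1.1 (fixWord_mem p.2), mem_cent0.2 (by
      have := (mono_mul_p7_iff p.1.1 (fixWord_mem p.2) 1).2 ⟨by rw [pow_one]; exact p.1.2,
        by rw [pow_one]; exact fixWord_fixed p.2⟩
      rwa [pow_one] at this), mono_smul_x0 _ _⟩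
  have hbij : Function.Bijective f := by
    refine ⟨fun p q h => ?_, fun g => ?_⟩
    · obtain ⟨e1, e2⟩ := mono_injective (congrArg Subtype.val h)
      exact Prod.ext (Subtype.ext e1) (hfw e2)
    · obtain ⟨g, hg1, hg2⟩ := g
      obtain ⟨σ, c, hc, rfl⟩ := eq_mono_of_fix hg2
      obtain ⟨e1, e2⟩ := (mono_mul_p7_iff σ hc 1).1 (by rw [pow_one]; exact mem_cent0.1 hg1)
      rw [pow_one] at e1 e2
      obtain ⟨j, rfl⟩ := exists_fixWord hc e2
      exact ⟨(⟨σ, e1⟩, j), rfl⟩
  rw [← Nat.card_congr (Equiv.ofBijective f hbij), Nat.card_prod, hS, Nat.card_fin]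

theorem card_norm0_stab : Nat.card (norm0 ⊓ MulAction.stabilizer Co0 x0 : Subgroup Co0) ≤ 1008 := by
  haveI := finiteCo0
  let f : (Subgroup.normalizer (Subgroup.zpowers sevenEl : Set M24)) × Fin 8 → Co0 := fun p =>
    mono p.1.1 (fixWord_mem p.2)
  have hsub : ((norm0 ⊓ MulAction.stabilizer Co0 x0 : Subgroup Co0) : Set Co0) ⊆ Set.range f := by
    rintro g ⟨hg1, hg2⟩
    obtain ⟨σ, c, hc, rfl⟩ := eq_mono_of_fix hg2
    obtain ⟨k, hk⟩ := norm_exponent hg1
    obtain ⟨e1, e2⟩ := (mono_mul_p7_iff σ hc k).1 hk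
    have hk7 : ¬ 7 ∣ k := by
      rintro ⟨j, rfl⟩
      rw [pow_mul, sevenEl_pow_seven, one_pow, one_mul] at e1
      have h1 : (sevenEl : M24) = 1 := by simpa using e1
      have h2 := orderOf_sevenEl
      rw [h1, OneMemClass.coe_one, orderOf_one] at h2
      omega
    have hcop : k.Coprime (orderOf (sevenEl : M24)) := by
      rw [← Subgroup.orderOf_coe, orderOf_sevenEl, Nat.coprime_comm]
      exact (Nat.Prime.coprime_iff_not_dvd (by norm_num)).2 hk7
    obtain ⟨j, rfl⟩ := exists_fixWord hc (smul_fix_code e2 hcop)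
    have hσ : σ ∈ Subgroup.normalizer (Subgroup.zpowers sevenEl : Set M24) := by
      refine Subgroup.mem_normalizer_iff_map_conj_eq.2 (Subgroup.eq_of_le_of_card_ge ?_ ?_)
      · rintro _ ⟨h, hh, rfl⟩
        obtain ⟨i, rfl⟩ := Subgroup.mem_zpowers_iff.1 hh
        show σ * sevenEl ^ i * σ⁻¹ ∈ _
        rw [← conj_zpow, e1, mul_inv_cancel_right]
        exact zpow_mem (pow_mem (Subgroup.mem_zpowers _) k) i
      · exact (Nat.card_congr (Subgroup.equivMapOfInjective _ _ (MulAut.conj σ).injective).toEquiv).le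
    exact ⟨(⟨σ, hσ⟩, j), rfl⟩
  calc Nat.card ↥((norm0 ⊓ MulAction.stabilizer Co0 x0 : Subgroup Co0) : Set Co0)
      ≤ Nat.card ↥(Set.range f) := Nat.card_mono (Set.toFinite _) hsub
    _ ≤ Nat.card ((Subgroup.normalizer (Subgroup.zpowers sevenEl : Set M24)) × Fin 8) :=
      Finite.card_range_le f
    _ = 1008 := by rw [Nat.card_prod, Sporadic96.seven_rep.1, Nat.card_fin]

/-- The automorphism commuting with the element. -/
noncomputable def tau : Co0 := tau_aut.elt

/-- The automorphism inverting the element. -/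
noncomputable def iota : Co0 := iota_aut.elt

theorem p7_smul_frame (i : GolayPt) :
    p7 • frame i = frame (pt (seven7Tab.getD (idx i) 0)) := by
  refine Subtype.ext ?_
  rw [p7, Monster39.permHom, MonoidHom.mk'_apply, coe_mono_frame]
  simp only [Finset.notMem_empty, if_false, frame, tab_sevenEl.apply]

theorem p7_smul_apply (v : leechLattice) (p : GolayPt) :
    ((p7 • v : leechLattice) : GolayPt → ℤ) (pt (seven7Tab.getD (idx p) 0)) = (v : GolayPt → ℤ) p := by
  rw [p7, coe_perm_smul, ← tab_sevenEl.apply p, Equiv.symm_apply_apply]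

theorem tau_comm : tau * p7 = p7 * tau := by
  refine ext_frame fun i => Subtype.ext (funext fun q => ?_)
  obtain ⟨p, rfl⟩ : ∃ p, pt (seven7Tab.getD (idx p) 0) = q :=
    ⟨(sevenEl : M24).1.symm q, by rw [← tab_sevenEl.apply, Equiv.apply_symm_apply]⟩
  rw [mul_smul, mul_smul, p7_smul_apply, p7_smul_frame, tau, AutTab.coe_elt_frame,
    AutTab.coe_elt_frame]
  exact (tau_iota_comm i p).1

theorem iota_inv : p7 * iota * p7 = iota := by
  refine ext_frame fun i => Subtype.ext (funext fun q => ?_)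
  obtain ⟨p, rfl⟩ : ∃ p, pt (seven7Tab.getD (idx p) 0) = q :=
    ⟨(sevenEl : M24).1.symm q, by rw [← tab_sevenEl.apply, Equiv.apply_symm_apply]⟩
  rw [mul_smul, mul_smul, p7_smul_apply, p7_smul_frame, iota, AutTab.coe_elt_frame,
    AutTab.coe_elt_frame]
  exact (tau_iota_comm i p).2

theorem tau_mem : tau ∈ cent0 := mem_cent0.2 tau_comm

theorem tau_smul_x0 : tau • x0 = Phi 2 := by
  rw [x0, smul_cl, Phi, cl_eq_iff]
  have e : ((tau • frame none : leechLattice) : GolayPt → ℤ) = fun p => tabMat tauTab p none :=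
    funext fun p => AutTab.coe_elt_frame tau_aut none p
  rw [e]
  exact cong_of_congB tau_moves

/-- The seven classes in the orbit. -/
def seven : Set L2 := {y | ∃ m : Fin 64, 1 ≤ (m : ℕ) ∧ (m : ℕ) < 8 ∧ Phi m = y}

theorem seven_subset_orbit : seven ⊆ {y | ∃ h ∈ cent0, h • x0 = y} := by
  rintro _ ⟨m, h1, h8, rfl⟩
  by_cases hm : (m : ℕ) = 1
  · exact ⟨1, one_mem _, by rw [one_smul, ← Phi_one]; congr 1; exact Fin.ext hm.symm⟩
  obtain ⟨hr, hj, he⟩ := reach_facts ⟨m, h8⟩ (show 2 ≤ (m : ℕ) by omega)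
  set r : Fin 6 := ⟨_, hr⟩
  set j : Fin 8 := ⟨_, hj⟩
  refine ⟨mono (repEl r) (fixWord_mem j) * tau, mul_mem (mem_cent0.2 ?_) tau_mem, ?_⟩
  · have := (mono_mul_p7_iff (repEl r) (fixWord_mem j) 1).2 ⟨by rw [pow_one]; exact repEl_comm r,
      by rw [pow_one]; exact fixWord_fixed j⟩
    rwa [pow_one] at this
  · rw [mul_smul, tau_smul_x0]
    obtain ⟨h, e⟩ := rep_mono_smul r j 1
    exact e.trans (congrArg Phi (Fin.ext he))

theorem ncard_seven : seven.ncard = 7 := by
  have e : seven = (fun i : Fin 7 => Phi ⟨i + 1, by omega⟩) '' Set.univ := by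
    ext y
    constructor
    · rintro ⟨m, h1, h8, rfl⟩
      exact ⟨⟨m - 1, by omega⟩, trivial, congrArg Phi (Fin.ext (by simp; omega))⟩
    · rintro ⟨i, -, rfl⟩
      exact ⟨_, by simp, by simp; omega, rfl⟩
  rw [e, Set.ncard_image_of_injective _ fun a b h => by
    have := congrArg Fin.val (Phi_injective h); exact Fin.ext (by simpa using this), Set.ncard_univ,
    Nat.card_fin]

/-- The element of order 3 acting on the group of the element. -/
noncomputable def wEl : Co0 :=
  permHom ⟨_, ((Sporadic96.seven_tabs_mem (l := sevenNTab) (by simp)).choose).2⟩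

theorem wEl_comm : wEl * p7 = p7 ^ 2 * wEl := by
  set w := (Sporadic96.seven_tabs_mem (l := sevenNTab) (by simp)).choose
  have tw : Tab (w : Equiv.Perm GolayPt) sevenNTab :=
    (Sporadic96.seven_tabs_mem (l := sevenNTab) (by simp)).choose_spec
  have hN := Sporadic96.seven_facts.2.2.2.2.2.1.2.2
  have h : w * sevenEl = sevenEl ^ 2 * w := Subtype.ext (by
    rw [pow_two]
    exact Golay.tab_unique (hN ▸ tw.mul tab_sevenEl) ((tab_sevenEl.mul tab_sevenEl).mul tw))
  show permHom w * permHom sevenEl = permHom sevenEl ^ 2 * permHom w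
  rw [← map_pow, ← map_mul, ← map_mul, h]

theorem comp_exponent {g h : Co0} {a b : ℕ} (hg : g * p7 = p7 ^ a * g) (hh : h * p7 = p7 ^ b * h) :
    g * h * p7 = p7 ^ (a * b) * (g * h) := by
  have hgb : g * p7 ^ b = p7 ^ (a * b) * g := by
    have : SemiconjBy g p7 (p7 ^ a) := hg
    have := this.pow_right b
    rwa [← pow_mul] at this
  rw [mul_assoc, hh, ← mul_assoc, hgb, mul_assoc]

theorem iota_exponent : iota * p7 = p7 ^ 6 * iota := by
  have h := congrArg (p7 ^ 6 * ·) iota_inv
  simp only [← mul_assoc] at h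
  rwa [← pow_succ, p7_pow_seven, one_mul] at h

/-- At least six cosets of the centralizer in the normalizer. -/
theorem six_mul_card_cent0 : 6 * Nat.card cent0 ≤ Nat.card norm0 := by
  haveI := finiteCo0
  let g : Fin 6 → Co0 := ![1, wEl, wEl * wEl, iota, iota * wEl, iota * wEl * wEl]
  let k : Fin 6 → ℕ := ![1, 2, 4, 6, 12, 24]
  have hg : ∀ i, g i * p7 = p7 ^ k i * g i := by
    intro i
    fin_cases i <;> simp only [g, k]
    · show 1 * p7 = p7 ^ 1 * 1; group
    · exact wEl_comm
    · exact comp_exponent wEl_comm wEl_comm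
    · exact iota_exponent
    · exact comp_exponent iota_exponent wEl_comm
    · exact comp_exponent (comp_exponent iota_exponent wEl_comm) wEl_comm
  have hk : ∀ i j, k i % 7 = k j % 7 → i = j := by decide +kernel
  let f : Fin 6 × cent0 → norm0 := fun p => ⟨g p.1 * (p.2 : Co0), mem_norm0 (k := k p.1) (by
    rw [mul_assoc, mem_cent0.1 p.2.2, ← mul_assoc, hg, mul_assoc])⟩
  have hf : Function.Injective f := by
    rintro ⟨i, c⟩ ⟨j, d⟩ h
    have e : g i * (c : Co0) = g j * (d : Co0) := congrArg Subtype.val h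
    have hconj : ∀ (a : Fin 6) (x : cent0), g a * (x : Co0) * p7 = p7 ^ k a * (g a * (x : Co0)) :=
      fun a x => by rw [mul_assoc, mem_cent0.1 x.2, ← mul_assoc, hg, mul_assoc]
    have h1 := hconj i c
    rw [e, hconj j d] at h1
    have hij : i = j := hk i j (by
      have h2 := mul_right_cancel h1
      rw [pow_eq_pow_iff_modEq, orderOf_p7] at h2
      exact h2.symm)
    subst hij
    exact Prod.ext rfl (Subtype.ext (mul_left_cancel e))
  have h := Nat.card_le_card_of_injective f hf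
  rwa [Nat.card_prod, Nat.card_fin] at h

theorem norm_orbit_subset :
    {y | ∃ h ∈ norm0, h • x0 = y} ⊆ Phi '' {m | (m : ℕ) ∈ shellTab} := by
  rintro y ⟨h, hh, rfl⟩
  haveI := finiteCo0
  obtain ⟨k, hk⟩ := norm_exponent (inv_mem hh)
  have hfix : p7 • h • x0 = h • x0 := by
    have e : p7 * h = h * p7 ^ k := by
      calc p7 * h = h * (h⁻¹ * p7) * h := by group
        _ = h * (p7 ^ k * h⁻¹) * h := by rw [hk]
        _ = _ := by group
    rw [← mul_smul, e, mul_smul]
    have h1 : p7 ∈ MulAction.stabilizer Co0 x0 := by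
      show p7 • x0 = x0
      rw [← Phi_one]; exact p7_smul_Phi 1
    rw [show p7 ^ k • x0 = x0 from pow_mem h1 k]
  obtain ⟨m, hm⟩ := fixed_class hfix
  refine ⟨m, (norm_facts m).2.2.1 ?_, hm.symm⟩
  have h2 := norm_unique (v := h • frame none) (w := Wl m) (by rw [← smul_cl]; exact hm)
    (by rw [sqNorm_smul, sqNorm_frame]) (by rw [sqNorm_Wl]; exact_mod_cast (norm_facts m).2.1)
  rw [sqNorm_smul, sqNorm_frame, sqNorm_Wl] at h2
  exact_mod_cast h2.symm

theorem card_cent0 : Nat.card cent0 = 2352 ∧ {y | ∃ h ∈ cent0, h • x0 = y} = seven := by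
  haveI := finiteCo0
  have hfin : ({y | ∃ h ∈ norm0, h • x0 = y}).Finite := (Set.toFinite _).subset norm_orbit_subset
  have h14 : ({y | ∃ h ∈ norm0, h • x0 = y}).ncard ≤ 14 := by
    refine (Set.ncard_le_ncard norm_orbit_subset).trans ((Set.ncard_image_le (Set.toFinite _)).trans ?_)
    rw [Set.ncard_eq_toFinset_card']
    decide +kernel
  have hN := card_eq_orbit_mul norm0 x0
  have hC := card_eq_orbit_mul cent0 x0
  rw [card_cent0_stab] at hC
  have h7 : 7 ≤ ({y | ∃ h ∈ cent0, h • x0 = y}).ncard := by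
    rw [← ncard_seven]
    refine Set.ncard_le_ncard seven_subset_orbit ?_
    refine (Set.finite_range fun h : cent0 => (h : Co0) • x0).subset ?_
    rintro y ⟨h, hh, rfl⟩
    exact ⟨⟨h, hh⟩, rfl⟩
  have h6 := six_mul_card_cent0
  have hle : Nat.card norm0 ≤ 14 * 1008 := hN.le.trans (Nat.mul_le_mul h14 card_norm0_stab)
  have heq : ({y | ∃ h ∈ cent0, h • x0 = y}).ncard = 7 := by omega
  refine ⟨by omega, ((Set.eq_of_subset_of_ncard_le seven_subset_orbit ?_ ?_)).symm⟩
  · rw [heq, ncard_seven]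
  · exact Set.finite_of_ncard_ne_zero (by omega)

theorem cent0_preserves {g : Co0} (hg : g ∈ cent0) {m : Fin 64} (hm : (m : ℕ) < 8) :
    ∃ n : Fin 64, (n : ℕ) < 8 ∧ g • Phi m = Phi n := by
  by_cases h0 : (m : ℕ) = 0
  · exact ⟨0, by norm_num, by
      rw [show m = 0 from Fin.ext h0, Phi_zero, smul_class_zero]⟩
  · have h1 : Phi m ∈ seven := ⟨m, by omega, hm, rfl⟩
    rw [← card_cent0.2] at h1
    obtain ⟨h, hh, e⟩ := h1
    have h2 : g • Phi m ∈ {y | ∃ h ∈ cent0, h • x0 = y} :=
      ⟨g * h, mul_mem hg hh, by rw [mul_smul, e]⟩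
    rw [card_cent0.2] at h2
    obtain ⟨n, -, hn, e'⟩ := h2
    exact ⟨n, hn, e'.symm⟩

end Cfsg.Agent.MonHe94
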