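import Cfsg.Agent.MonHe94.Orbit

/-!
The centralizer in Co1 of the element of order 7 is mapped onto SL(3, 2) with the group of the element as
kernel.
-/

set_option autoImplicit false
set_option maxRecDepth 100000
set_option linter.style.haveILetI false

namespace Cfsg.Agent.MonHe94

open Cfsg Cfsg.Agent.Leech
open Cfsg.Agent.Golay (idx pt toSet Tab)
open Cfsg.Agent.Sporadic96 (sevenEl orderOf_sevenEl)
open Cfsg.Agent.Monster39 (permHom mono_mul_mono finiteCo1 mono_one)
open scoped Pointwise

/-- Three bits. -/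
abbrev V3 : Type := Fin 3 → ZMod 2

/-- The index of a vector. -/
def vcode (v : V3) : Fin 64 :=
  ⟨(v 0).val + 2 * (v 1).val + 4 * (v 2).val, by
    have := (v 0).val_lt; have := (v 1).val_lt; have := (v 2).val_lt; omega⟩

theorem vcode_add : ∀ v w : V3, vcode (v + w) = xr (vcode v) (vcode w) := by decide +kernel

theorem vcode_injective : Function.Injective vcode := by
  intro v w h
  revert v w
  decide +kernel

theorem vcode_lt (v : V3) : (vcode v : ℕ) < 8 := by
  have := (v 0).val_lt; have := (v 1).val_lt; have := (v 2).val_lt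
  show (v 0).val + 2 * (v 1).val + 4 * (v 2).val < 8
  omega

theorem vcode_surj : ∀ n : Fin 64, (n : ℕ) < 8 → ∃ v : V3, vcode v = n := by decide +kernel

theorem vcode_single : ∀ k : Fin 3, vcode (Pi.single k 1) = bitPt (k.castLE (by norm_num)) := by
  decide +kernel

/-- The seven classes and zero as an image of three bits. -/
def Phi3 : V3 →+ L2 where
  toFun v := Phi (vcode v)
  map_zero' := Phi_zero
  map_add' v w := by rw [vcode_add, Phi_add]

theorem Phi3_apply (v : V3) : Phi3 v = Phi (vcode v) := rfl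

theorem Phi3_injective : Function.Injective Phi3 :=
  fun _ _ h => vcode_injective (Phi_injective h)

theorem exists_image (g : cent0) (v : V3) : ∃ w : V3, Phi3 w = (g : Co0) • Phi3 v := by
  obtain ⟨n, hn, e⟩ := cent0_preserves g.2 (vcode_lt v)
  obtain ⟨w, rfl⟩ := vcode_surj n hn
  exact ⟨w, e.symm⟩

/-- The action on three bits. -/
noncomputable def lin (g : cent0) : V3 →+ V3 where
  toFun v := (exists_image g v).choose
  map_zero' := Phi3_injective (by
    rw [(exists_image g 0).choose_spec, map_zero, smul_class_zero])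
  map_add' v w := Phi3_injective ((exists_image g (v + w)).choose_spec.trans (by
    rw [map_add Phi3, smul_class_add, map_add Phi3, (exists_image g v).choose_spec,
      (exists_image g w).choose_spec]))

theorem Phi3_lin (g : cent0) (v : V3) : Phi3 (lin g v) = (g : Co0) • Phi3 v :=
  (exists_image g v).choose_spec

/-- The action as a homomorphism. -/
noncomputable def linHom : cent0 →* Module.End (ZMod 2) V3 where
  toFun g := (lin g).toZModLinearMap 2
  map_one' := LinearMap.ext fun v => Phi3_injective (by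
    show Phi3 (lin 1 v) = Phi3 v
    rw [Phi3_lin, OneMemClass.coe_one, one_smul])
  map_mul' g h := LinearMap.ext fun v => Phi3_injective (by
    show Phi3 (lin (g * h) v) = Phi3 (lin g (lin h v))
    rw [Phi3_lin, Phi3_lin, Phi3_lin, Subgroup.coe_mul, mul_smul])

/-- The representation over the field with two elements. -/
noncomputable def rho : cent0 →* GL (Fin 3) (ZMod 2) :=
  ((LinearMap.toMatrixAlgEquiv' (R := ZMod 2) (n := Fin 3)).toAlgHom.toRingHom.toMonoidHom.comp linHom).toHomUnits

theorem rho_eq_one_iff (g : cent0) : rho g = 1 ↔ ∀ v : V3, (g : Co0) • Phi3 v = Phi3 v := by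
  constructor
  · intro h v
    have h1 : LinearMap.toMatrixAlgEquiv' (R := ZMod 2) (n := Fin 3) (linHom g) = 1 := congrArg Units.val h
    have h2 : linHom g = 1 := by
      rw [← map_one (LinearMap.toMatrixAlgEquiv' (R := ZMod 2) (n := Fin 3))] at h1
      exact (LinearMap.toMatrixAlgEquiv' (R := ZMod 2) (n := Fin 3)).injective h1
    have h3 : lin g v = v := LinearMap.congr_fun h2 v
    rw [← Phi3_lin, h3]
  · intro h
    have h2 : linHom g = 1 := LinearMap.ext fun v => Phi3_injective (by
      show Phi3 (lin g v) = Phi3 v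
      rw [Phi3_lin, h])
    refine Units.ext ?_
    show LinearMap.toMatrixAlgEquiv' (R := ZMod 2) (n := Fin 3) (linHom g) = 1
    rw [h2, map_one]

theorem p7_smul_Phi3 (v : V3) : p7 • Phi3 v = Phi3 v := p7_smul_Phi _

theorem pow_p7_smul (i : ℤ) (v : V3) : p7 ^ i • Phi3 v = Phi3 v :=
  zpow_mem (show p7 ∈ MulAction.stabilizer Co0 (Phi3 v) from p7_smul_Phi3 v) i

theorem rho_ker_subset {g : cent0} (h : rho g = 1) :
    ∃ i : ℤ, (g : Co0) = p7 ^ i ∨ (g : Co0) = negOne * p7 ^ i := by
  have hfix := (rho_eq_one_iff g).1 h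
  have hx : (g : Co0) • x0 = x0 := by
    rw [← Phi_one]
    have := hfix (Pi.single 0 1)
    rw [Phi3_apply, vcode_single] at this
    exact this
  obtain ⟨σ, c, hc, hg⟩ := eq_mono_of_fix hx
  obtain ⟨e1, e2⟩ := (mono_mul_p7_iff σ hc 1).1 (by rw [pow_one, ← hg]; exact mem_cent0.1 g.2)
  rw [pow_one] at e1 e2
  obtain ⟨j, rfl⟩ := exists_fixWord hc e2
  obtain ⟨r, τ, hτ, rfl⟩ := exists_repEl e1
  obtain ⟨i, rfl⟩ := Subgroup.mem_zpowers_iff.1 hτ
  have hsplit : mono (repEl r * sevenEl ^ i) hc = mono (repEl r) (fixWord_mem j) * p7 ^ i := by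
    rw [p7, ← map_zpow, Monster39.permHom, MonoidHom.mk'_apply]
    exact (mono_mul_mono (fixWord_mem j) empty_mem_code hc
      (by rw [Finset.smul_finset_empty]; exact (symmDiff_bot _).symm)).symm
  rw [hsplit] at hg
  have hact : ∀ k : Fin 3, ((actTab.getD r []).getD j []).getD k 0 = 2 ^ (k : ℕ) := by
    intro k
    obtain ⟨h64, e⟩ := rep_mono_smul r j k
    have h1 := hfix (Pi.single k 1)
    rw [hg, mul_smul, pow_p7_smul, Phi3_apply, vcode_single, e] at h1
    exact congrArg Fin.val (Phi_injective h1)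
  obtain ⟨hr, hj⟩ := act_faithful r j hact
  obtain rfl : r = 0 := Fin.ext hr
  have hr1 : repEl 0 = 1 := by
    have h0 : ∀ p : GolayPt, (repTab.getD (0 : Fin 6) []).getD (idx p) 0 = idx p := by decide +kernel
    apply Subtype.ext
    refine Equiv.ext fun p => ?_
    rw [(tab_repEl 0).apply, h0, Golay.pt_idx]
    rfl
  refine ⟨i, ?_⟩
  rcases hj with hj | hj
  · left
    obtain rfl : j = 0 := Fin.ext hj
    have : fixWord 0 = ∅ := by decide +kernel
    rw [hg]
    convert one_mul (p7 ^ i) using 2
    rw [← mono_one]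
    simp only [hr1, this]
  · right
    obtain rfl : j = 7 := Fin.ext hj
    have : fixWord 7 = Finset.univ := by decide +kernel
    rw [hg]
    congr 1
    show _ = mono 1 univ_mem_code
    simp only [hr1, this]

theorem card_rho_ker : Nat.card rho.ker ≤ 14 := by
  haveI := finiteCo0
  let f : Fin 2 × Fin 7 → Co0 := fun p => (if p.1 = 0 then 1 else negOne) * p7 ^ (p.2 : ℕ)
  have hsub : ((rho.ker.map cent0.subtype : Subgroup Co0) : Set Co0) ⊆ Set.range f := by
    rintro _ ⟨g, hg, rfl⟩
    obtain ⟨i, hi⟩ := rho_ker_subset hg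
    obtain ⟨n, hn, e⟩ : ∃ n, n < 7 ∧ p7 ^ i = p7 ^ n := by
      refine ⟨(i % 7).toNat, by omega, ?_⟩
      rw [← zpow_natCast, Int.toNat_of_nonneg (Int.emod_nonneg _ (by norm_num))]
      conv_lhs => rw [← zpow_mod_orderOf, orderOf_p7]
      norm_num
    rw [e] at hi
    rcases hi with hi | hi
    · exact ⟨(0, ⟨n, hn⟩), by simp [f, hi]⟩
    · exact ⟨(1, ⟨n, hn⟩), by simp [f, hi]⟩
  calc Nat.card rho.ker = Nat.card ↥((rho.ker.map cent0.subtype : Subgroup Co0) : Set Co0) :=
        Nat.card_congr (Subgroup.equivMapOfInjective _ _ cent0.subtype_injective).toEquiv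
    _ ≤ Nat.card ↥(Set.range f) := Nat.card_mono (Set.toFinite _) hsub
    _ ≤ Nat.card (Fin 2 × Fin 7) := Finite.card_range_le f
    _ = 14 := by simp

theorem rho_surjective : Function.Surjective rho := by
  haveI := finiteCo0
  rw [← MonoidHom.range_eq_top]
  refine Subgroup.eq_top_of_le_card _ ?_
  have hG : Nat.card (GL (Fin 3) (ZMod 2)) = 168 := by
    rw [Matrix.card_GL_field, ZMod.card]; simp [Fin.prod_univ_succ]
  rw [hG]
  have h := Subgroup.card_eq_card_quotient_mul_card_subgroup rho.ker
  rw [Nat.card_congr (QuotientGroup.quotientKerEquivRange rho).toEquiv, card_cent0.1] at h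
  have := card_rho_ker
  by_contra hc
  have := Nat.mul_le_mul (show Nat.card rho.range ≤ 167 by omega) this
  omega

/-- The image of the element in Co1. -/
noncomputable def beta : Spor.Co1 := QuotientGroup.mk p7

theorem beta_pow_seven : beta ^ 7 = 1 := by
  rw [beta, ← QuotientGroup.mk_pow, p7_pow_seven, QuotientGroup.mk_one]

theorem orderOf_beta : orderOf beta = 7 := by
  haveI : Fact (Nat.Prime 7) := ⟨by norm_num⟩
  refine orderOf_eq_prime beta_pow_seven fun h => ?_
  have h1 := Monster39.permHom_mem_center (σ := sevenEl) ((QuotientGroup.eq_one_iff _).1 h)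
  have := orderOf_p7
  rw [p7, h1, map_one, orderOf_one] at this
  omega

/-- A lift of an element commuting with the image commutes with the element. -/
theorem mem_cent0_of_comm {g : Co0} (h : (QuotientGroup.mk g : Spor.Co1) * beta = beta * QuotientGroup.mk g) :
    g ∈ cent0 := by
  rw [beta, ← QuotientGroup.mk_mul, ← QuotientGroup.mk_mul, eq_comm, QuotientGroup.eq] at h
  set u := (p7 * g)⁻¹ * (g * p7) with hu
  have e : g * p7 = p7 * g * u := by rw [hu]; group
  rcases center_eq_or _ h with h1 | h1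
  · rw [h1, mul_one] at e
    exact mem_cent0.2 e
  · exfalso
    rw [h1] at e
    have hc : ∀ x : Co0, negOne * x = x * negOne := fun x =>
      (Subgroup.mem_center_iff.1 negOne_mem_center x).symm
    have h2 : g * p7 * g⁻¹ = p7 * negOne := by
      rw [e, mul_assoc p7 g negOne, ← hc g]; group
    have h3 := congrArg (· ^ 7) h2
    simp only [conj_pow] at h3
    rw [p7_pow_seven, mul_one, mul_inv_cancel, (show Commute p7 negOne from (hc p7).symm).mul_pow,
      p7_pow_seven, one_mul] at h3
    have hsq : (negOne : Co0) ^ 2 = 1 := by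
      haveI := finiteCo0
      have hd := Subgroup.orderOf_dvd_natCard _ negOne_mem_center
      rw [card_center] at hd
      exact orderOf_dvd_iff_pow_eq_one.1 hd
    rw [show (7 : ℕ) = 2 * 3 + 1 from rfl, pow_succ, pow_mul, hsq, one_pow, one_mul] at h3
    exact negOne_ne_one h3.symm

/-- The centralizer of the image in Co1. -/
noncomputable abbrev cent1 : Subgroup Spor.Co1 := Subgroup.centralizer ({beta} : Set Spor.Co1)

/-- Reduction to Co1. -/
noncomputable def red : cent0 →* cent1 :=
  ((QuotientGroup.mk' (Subgroup.center Co0)).comp cent0.subtype).codRestrict cent1 fun g =>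
    Subgroup.mem_centralizer_singleton_iff.2 (by
      show QuotientGroup.mk' _ (g : Co0) * QuotientGroup.mk' _ p7 = QuotientGroup.mk' _ p7 * QuotientGroup.mk' _ (g : Co0)
      rw [← map_mul, ← map_mul, mem_cent0.1 g.2])

theorem red_surjective : Function.Surjective red := by
  rintro ⟨x, hx⟩
  obtain ⟨g, rfl⟩ := QuotientGroup.mk_surjective x
  exact ⟨⟨g, mem_cent0_of_comm (Subgroup.mem_centralizer_singleton_iff.1 hx)⟩, rfl⟩

theorem exists_hom : ∃ f : cent1 →* Matrix.SpecialLinearGroup (Fin 3) (ZMod 2),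
    Function.Surjective f ∧ (∀ x : cent1, f x = 1 ↔ (x : Spor.Co1) ∈ Subgroup.zpowers beta) ∧
    ∀ (g : Co0) (x : cent1), (QuotientGroup.mk g : Spor.Co1) = x →
      (∀ v : V3, g • Phi3 v = Phi3 v) → f x = 1 := by
  obtain ⟨ε⟩ : Nonempty (Matrix.SpecialLinearGroup (Fin 3) (ZMod 2) ≃* GL (Fin 3) (ZMod 2)) := by
    refine ⟨MulEquiv.ofBijective Matrix.SpecialLinearGroup.toGL ⟨?_, ?_⟩⟩
    · intro a b h
      exact Subtype.ext (congrArg Units.val h)
    · intro g
      have h : ∀ c : ZMod 2, c ≠ 0 → c = 1 := by decide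
      exact ⟨⟨g, h _ ((Matrix.isUnit_iff_isUnit_det _).mp g.isUnit).ne_zero⟩, Units.ext rfl⟩
  have hle : red.ker ≤ rho.ker := by
    intro g hg
    have h1 : (g : Co0) ∈ Subgroup.center Co0 :=
      (QuotientGroup.eq_one_iff _).1 (congrArg Subtype.val hg)
    rw [MonoidHom.mem_ker, rho_eq_one_iff]
    intro v
    rcases center_eq_or _ h1 with h | h <;> rw [h]
    · exact one_smul _ _
    · exact negOne_smul_class _
  let f1 : cent1 →* GL (Fin 3) (ZMod 2) := red.liftOfSurjective red_surjective ⟨rho, hle⟩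
  have hf1 : ∀ g, f1 (red g) = rho g := fun g => MonoidHom.liftOfRightInverse_comp_apply _ _ _ ⟨rho, hle⟩ g
  refine ⟨ε.symm.toMonoidHom.comp f1, ?_, fun x => ?_, fun g x hgx hfix => ?_⟩
  · intro y
    obtain ⟨g, hg⟩ := rho_surjective (ε y)
    exact ⟨red g, by simp [hf1, hg]⟩
  · obtain ⟨g, rfl⟩ := red_surjective x
    rw [MonoidHom.comp_apply, hf1, MulEquiv.coe_toMonoidHom, map_eq_one_iff _ ε.symm.injective]
    constructor
    · intro h
      obtain ⟨i, hi | hi⟩ := rho_ker_subset h
      · refine Subgroup.mem_zpowers_iff.2 ⟨i, ?_⟩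
        show beta ^ i = QuotientGroup.mk (g : Co0)
        rw [hi, beta, QuotientGroup.mk_zpow]
      · refine Subgroup.mem_zpowers_iff.2 ⟨i, ?_⟩
        show beta ^ i = QuotientGroup.mk (g : Co0)
        rw [hi, beta, QuotientGroup.mk_mul, (QuotientGroup.eq_one_iff _).2 negOne_mem_center, one_mul,
          QuotientGroup.mk_zpow]
    · intro h
      obtain ⟨i, hi⟩ := Subgroup.mem_zpowers_iff.1 h
      change beta ^ i = QuotientGroup.mk (g : Co0) at hi
      rw [beta, ← QuotientGroup.mk_zpow, QuotientGroup.eq] at hi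
      rw [rho_eq_one_iff]
      intro v
      have e : (g : Co0) = p7 ^ i * ((p7 ^ i)⁻¹ * (g : Co0)) := by group
      rw [e, mul_smul]
      rcases center_eq_or _ hi with h1 | h1 <;> rw [h1]
      · rw [one_smul, pow_p7_smul]
      · rw [negOne_smul_class, pow_p7_smul]
  · have hmem : g ∈ cent0 := mem_cent0_of_comm (by
      rw [hgx]; exact Subgroup.mem_centralizer_singleton_iff.1 x.2)
    obtain rfl : x = red ⟨g, hmem⟩ := Subtype.ext hgx.symm
    rw [MonoidHom.comp_apply, hf1, (rho_eq_one_iff ⟨g, hmem⟩).2 hfix, map_one]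

end Cfsg.Agent.MonHe94
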